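import Groth.Agent.Dual.K174.FibVan
import Groth.Agent.Dual.H354.Local
import Groth.Agent.Dual.H318.CMShriek
import Groth.Agent.Dual.H318.PureDim
import Groth.Agent.Dual.H323.RelPerfect
import Groth.Agent.Dual.H307.BcGen
import Groth.Agent.S1342
import Groth.Agent.PerfB.ModBC
import Groth.Agent.Ega4fib.H172.FibDimBC
import Groth.Agent.CurvesC.SingleTri

/-!
# The relative dualizing complex of a proper Cohen–Macaulay morphism over an arbitrary base

`f : X ⟶ Y` proper, flat, locally of finite presentation, `Y` quasi-compact and quasi-separated, Cohen–Macaulay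
with fibres of dimension `d` at every point, `M` universal for `(f, O_Y)` (that is `M = a(O_Y)`).
* `isZero_HD`: `H^i(M) = 0` for `i ≠ -d`;
* `isFlatOver_HD`: `H^{-d}(M)` is flat over `Y`.
-/

set_option autoImplicit false
universe u
open CategoryTheory CategoryTheory.Limits AlgebraicGeometry
attribute [local instance] HasDerivedCategory.standard

namespace K174.AdjCM

open Groth.Agent Groth.Agent.Ega1.ADualUniv

variable {X Y : Scheme.{u}}

/-- The Noetherian case. -/
theorem isZero_HD_of_noeth [IsNoetherian Y] (f : X ⟶ Y) [IsProper f] [Flat f]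
    [LocallyOfFinitePresentation f] [DCoh.HasRpush f] {K : DCoh.D Y}
    (eK : K ≅ DCoh.inD Y (Coh.structureModule Y)) {M : DCoh.D X} (hM : Univ f K M)
    (hCM : ∀ x : X, MoreMor.IsCMAt f x) (d : ℕ)
    (hd : ∀ x : X, FlatMor.fibreDimAt f x = (d : WithBot ℕ∞)) (i : ℤ) (hi : i ≠ -(d : ℤ)) :
    IsZero (DCoh.HD M i) := by
  have hX : IsLocallyNoetherian X := LocallyOfFiniteType.isLocallyNoetherian f
  refine (Dual.H318.CMShriek.main f M ?_ d hCM hd).1 i hi
  intro R A jU jV _ _ φ h n ψ hψ hψC _ _ _ Rψ adjψ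
  exact Dual.H354.Local.bridge f eK hM jU jV φ h n ψ hψ hψC adjψ

variable [CompactSpace Y] [QuasiSeparatedSpace Y] (f : X ⟶ Y) [IsProper f] [Flat f]
    [LocallyOfFinitePresentation f] [DCoh.HasRpush f] {K : DCoh.D Y}
    (eK : K ≅ DCoh.inD Y (Coh.structureModule Y)) {M : DCoh.D X} (hM : Univ f K M)
    (hCM : ∀ x : X, MoreMor.IsCMAt f x) (d : ℕ)
    (hd : ∀ x : X, FlatMor.fibreDimAt f x = (d : WithBot ℕ∞))

include eK hM hCM hd in
theorem isZero_HD_fibre (s : Y) [DCoh.HasLpull (f.fiberι s)] (i : ℤ) (hi : i ≠ -(d : ℤ)) :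
    IsZero (DCoh.HD ((DCoh.Lpull (f.fiberι s)).obj M) i) := by
  have sq : IsPullback (f.fiberι s) (f.fiberToSpecResidueField s) f (Y.fromSpecResidueField s) :=
    IsPullback.of_hasPullback _ _
  have h1 : CompactSpace X := QuasiCompact.compactSpace_of_compactSpace f
  have h2 : QuasiSeparatedSpace X := quasiSeparatedSpace_of_quasiSeparated f
  have h10 : IsProper (f.fiberToSpecResidueField s) :=
    MorphismProperty.of_isPullback (P := @IsProper) sq inferInstance
  have h9 : LocallyOfFinitePresentation (f.fiberToSpecResidueField s) :=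
    MorphismProperty.of_isPullback (P := @LocallyOfFinitePresentation) sq inferInstance
  have h8 : Flat (f.fiberToSpecResidueField s) :=
    MorphismProperty.of_isPullback (P := @Flat) sq inferInstance
  have h3 : CompactSpace (f.fiber s) :=
    QuasiCompact.compactSpace_of_compactSpace (f.fiberToSpecResidueField s)
  have h4 : QuasiSeparatedSpace (f.fiber s) :=
    quasiSeparatedSpace_of_quasiSeparated (f.fiberToSpecResidueField s)
  have h5 : DCoh.HasRpush (f.fiberToSpecResidueField s) := Dcoh.DerSch.hasRpush _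
  have h6 : DCoh.HasLpull (Y.fromSpecResidueField s) := S0959.result _
  have hK : DCoh.IsQCohD K := PerfA.QCohD.isQCohD_of_iso eK.symm
    (PerfA.QCohD.isQCohD_inD _ (Ega2.QCohLocal.isQCoh_structureModule _))
  have h7 := Dual.H307.BcGen.univ_bc (Or.inl inferInstance) sq
    (fun P hP => Dual.H323.RelPerfect.isPerfect_Rpush f P hP) hK hM
  have eK' : (DCoh.Lpull (Y.fromSpecResidueField s)).obj K ≅
      DCoh.inD _ (Coh.structureModule (Spec (Y.residueField s))) :=
    (DCoh.Lpull (Y.fromSpecResidueField s)).mapIso eK ≪≫ PerfB.ModBC.lpullInD (Y.fromSpecResidueField s)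
  refine isZero_HD_of_noeth (f.fiberToSpecResidueField s) eK' h7 ?_ d ?_ i hi
  · intro x
    have := S1342.result f (f.fiberToSpecResidueField s) (f.fiberι s) (Y.fromSpecResidueField s) sq
    have h : x ∈ {x' | MoreMor.IsCMAt (f.fiberToSpecResidueField s) x'} := by
      rw [this]
      exact hCM _
    exact h
  · intro x
    rw [Ega4fib.H172.FibDimBC.fibreDimAt_of_isPullback sq x]
    exact hd _

include eK hM hCM hd in
theorem isZero_HD (i : ℤ) (hi : i ≠ -(d : ℤ)) : IsZero (DCoh.HD M i) := by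
  have : ∀ s : Y, DCoh.HasLpull (f.fiberι s) := fun s => S0959.result _
  exact FibVan.isZero_HD_of_fibre f M i (Dual.H323.RelPerfect.isPseudoCoherentD f eK hM _)
    fun s => isZero_HD_fibre f eK hM hCM d hd s i hi

include eK hM hCM hd in
theorem isFlatOver_HD : FlatMod.IsFlatOver f (DCoh.HD M (-(d : ℤ))) := by
  have : ∀ s : Y, DCoh.HasLpull (f.fiberι s) := fun s => S0959.result _
  exact FibVan.isFlatOver_HD_of_fibre f M _ (Dual.H323.RelPerfect.isPseudoCoherentD f eK hM _)
    (fun s => isZero_HD_fibre f eK hM hCM d hd s _ (by omega))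
    (fun s => isZero_HD_fibre f eK hM hCM d hd s _ (by omega))

include eK hM hCM hd in
/-- `a(O_Y) = ω[d]` with `ω` quasi-coherent and flat over `Y`. -/
theorem exists_iso : ∃ ω : X.Modules, Coh.IsQCoh ω ∧ FlatMod.IsFlatOver f ω ∧
    Nonempty ((DCoh.inD X ω)⟦(d : ℤ)⟧ ≅ M) := by
  have hz : ∀ i : ℤ, i ≠ -(d : ℤ) → IsZero (DCoh.HD M i) := isZero_HD f eK hM hCM d hd
  have h1 : M.IsLE (-(d : ℤ)) := by
    rw [DerivedCategory.isLE_iff]
    exact fun i hi => hz i (by omega)
  have h2 : M.IsGE (-(d : ℤ)) := by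
    rw [DerivedCategory.isGE_iff]
    exact fun i hi => hz i (by omega)
  exact ⟨DCoh.HD M (-(d : ℤ)), hM.qcoh _, isFlatOver_HD f eK hM hCM d hd,
    CurvesC.SingleTri.exists_iso_shift M (d : ℤ) _ (Iso.refl _)⟩

end K174.AdjCM
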