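import Groth.Agent.LoccohB.DualLoc
import Groth.Agent.LoccohB.InjRep
import Groth.Agent.LoccohB.FinInj

/-!
# Finite injective dimension and local detection of dualizing complexes

* `hasInjAmplitudeIn_iff`, `hasFiniteInjDim_iff`: `DRing.HasFiniteInjDim` in terms of `Hom(M, K[i])`.
* `jointlyFaithful_atPrime`.
* `isDualizing_of_forall`: a complex of finite injective dimension with finite cohomology which is
  dualizing after a jointly faithful family of flat base changes is dualizing.
-/

set_option autoImplicit false
universe w v u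

open CategoryTheory CategoryTheory.Limits
open scoped TensorProduct

attribute [local instance] HasDerivedCategory.standard

namespace K174.Basic

open Groth.Agent DerivedCategory Groth.Agent.LoccohB.DualBC Groth.Agent.LoccohB.FlatLBC
  Groth.Agent.LoccohB.HomBC

variable {A : Type u} [CommRing A]

theorem hasInjAmplitudeIn_iff (K : Dual.D A) (a b : ℤ) :
    DRing.HasInjAmplitudeIn A a b K ↔ ∀ (M : Type u) [AddCommGroup M] [Module A M] (i : ℤ),
      (i < a ∨ b < i) → Subsingleton (Dual.inD A M ⟶ K⟦i⟧) := by
  constructor
  · rintro ⟨E, hE, hinj, ⟨e⟩⟩ M _ _ i hi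
    have h1 : E.IsStrictlyGE a := by
      rw [CochainComplex.isStrictlyGE_iff]
      exact fun i hi => hE i (Or.inl hi)
    have h2 : E.IsStrictlyLE b := by
      rw [CochainComplex.isStrictlyLE_iff]
      exact fun i hi => hE i (Or.inr hi)
    refine LoccohB.FinInj.subsingleton_of_injective E a b (fun i => ?_) K e M i hi
    have := hinj i
    exact Module.injective_object_of_injective_module A (E.X i)
  · intro h
    obtain ⟨I, h1, h2, hI, ⟨e⟩⟩ :=
      LoccohB.InjRep.exists_injective_representative_of_subsingleton K a b h
    refine ⟨I, fun i hi => ?_, fun i => ?_, ⟨e⟩⟩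
    · rcases hi with hi | hi
      · exact CochainComplex.isZero_of_isStrictlyGE I a i hi
      · exact CochainComplex.isZero_of_isStrictlyLE I b i hi
    · have := hI i
      exact Module.injective_module_of_injective_object A (I.X i)

theorem hasFiniteInjDim_iff (K : Dual.D A) :
    DRing.HasFiniteInjDim A K ↔ ∃ a b : ℤ, ∀ (M : Type u) [AddCommGroup M] [Module A M] (i : ℤ),
      (i < a ∨ b < i) → Subsingleton (Dual.inD A M ⟶ K⟦i⟧) := by
  constructor
  · rintro ⟨a, b, h⟩
    exact ⟨a, b, (hasInjAmplitudeIn_iff K a b).1 h⟩
  · rintro ⟨a, b, h⟩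
    exact ⟨a, b, (hasInjAmplitudeIn_iff K a b).2 h⟩

section Family

variable {ι : Type*} {B : ι → Type u} [∀ i, CommRing (B i)] [∀ i, Algebra A (B i)]

/-- A complex of finite injective dimension with finite cohomology which becomes dualizing after a
jointly faithful family of flat base changes is dualizing. -/
theorem isDualizing_of_forall [IsNoetherianRing A] (hB : JointlyFaithful (A := A) B)
    (h : ∀ i, (algebraMap A (B i)).Flat) {K : Dual.D A}
    (hinj : ∃ a b : ℤ, ∀ (M : Type u) [AddCommGroup M] [Module A M] (i : ℤ),
      (i < a ∨ b < i) → Subsingleton (Dual.inD A M ⟶ K⟦i⟧))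
    (hfin : ∀ i : ℤ, Module.Finite A (Dual.HD A K i))
    (hK : ∀ i, Dual.IsDualizing (B i) ((flatBC (algebraMap A (B i)) (h i)).obj K)) :
    Dual.IsDualizing A K := by
  have hflat : ∀ i, Module.Flat A (B i) := fun i => (RingHom.flat_algebraMap_iff).1 (h i)
  obtain ⟨a, b, hab⟩ := hinj
  have hGE : K.IsGE a := isGE_of_subsingleton K a (fun i hi => hab A i (Or.inl hi))
  have hLE : K.IsLE b := isLE_of_subsingleton K b (fun i hi => hab A i (Or.inr hi))
  refine ⟨inferInstance, ⟨a, b, hab⟩, hfin, ?_, ?_⟩
  · apply hB.bijective (toEnd A K)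
    intro i
    exact (toEnd_bijective_iff (B i) (h i) K (bc_bijective_of_bounded (B i) (h i) K a b
      hfin K a)).1 (hK i).toEnd_bijective
  · intro n hn
    apply hB
    intro i
    have := (hK i).ext_self_subsingleton n hn
    exact (homBCEquiv (B i) (h i) K a b hfin K a n).toEquiv.subsingleton_congr.2 this

end Family

/-- The localizations at all primes form a jointly faithful family. -/
theorem jointlyFaithful_atPrime (A : Type u) [CommRing A] :
    JointlyFaithful (A := A) (fun p : PrimeSpectrum A => Localization.AtPrime p.asIdeal) := by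
  intro N _ _ hN
  refine ⟨fun x y => ?_⟩
  refine Module.eq_of_localization_maximal
    (fun (P : Ideal A) [P.IsMaximal] => Localization.AtPrime P ⊗[A] N)
    (fun (P : Ideal A) [P.IsMaximal] => TensorProduct.mk A (Localization.AtPrime P) N 1) x y ?_
  intro P hP
  have := hN ⟨P, hP.isPrime⟩
  exact Subsingleton.elim (α := Localization.AtPrime P ⊗[A] N) _ _

theorem flat_atPrime (A : Type u) [CommRing A] (p : Ideal A) [p.IsPrime] :
    (algebraMap A (Localization.AtPrime p)).Flat :=
  RingHom.flat_algebraMap_iff.2 (IsLocalization.flat (Localization.AtPrime p) p.primeCompl)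

end K174.Basic
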