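import Groth.Agent.Dual.K174.SymHom
import Groth.Agent.LoccohB.KosP2
import Groth.Agent.LoccohB.FlatDual
import Groth.Agent.LoccohB.LocDualMod
import Mathlib.RingTheory.Support

/-!
# Bounded injective dimension over a Noetherian ring from local finite injective dimension

Modules of morphisms `X ⟶ R[i]` in `D(A)` localized at primes; top corner argument for a complex with
cohomology supported on `V(p)`.
-/

set_option autoImplicit false
universe u

open CategoryTheory CategoryTheory.Limits Pretriangulated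

attribute [local instance] HasDerivedCategory.standard

namespace K174.BddInj

open DerivedCategory Groth.Agent.LoccohB Groth.Agent.LoccohB.Devissage

variable {A : Type u} [CommRing A]

/-- every morphism `X ⟶ R[i]` is killed by an element outside `q`. -/
def Z (q : Ideal A) (R X : Dual.D A) (i : ℤ) : Prop := ∀ e : X ⟶ R⟦i⟧, ∃ t : A, t ∉ q ∧ t • e = 0

variable {q : Ideal A} {R : Dual.D A}

lemma Z.of_iso {X X' : Dual.D A} (e : X ≅ X') {i : ℤ} (h : Z q R X i) : Z q R X' i := by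
  intro f
  obtain ⟨t, ht, h0⟩ := h (e.hom ≫ f)
  refine ⟨t, ht, ?_⟩
  rw [← cancel_epi e.hom, comp_zero, Linear.comp_smul, h0]

lemma Z.of_isZero {X : Dual.D A} (h : IsZero X) (hq : q ≠ ⊤) (i : ℤ) : Z q R X i := fun _ =>
  ⟨1, (Ideal.ne_top_iff_one q).1 hq, h.eq_of_src _ _⟩

lemma Z.shift_iff (X : Dual.D A) (n i j : ℤ) (hij : j + n = i) :
    Z q R (X⟦n⟧) i ↔ Z q R X j := by
  let ε : R⟦i⟧ ≅ (R⟦j⟧)⟦n⟧ := (shiftFunctorAdd' (Dual.D A) j n i hij).app R
  constructor
  · intro h e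
    obtain ⟨t, ht, h0⟩ := h (e⟦n⟧' ≫ ε.inv)
    refine ⟨t, ht, ?_⟩
    apply (shiftFunctor (Dual.D A) n).map_injective
    rw [Functor.map_zero, Functor.map_smul, ← cancel_mono ε.inv, zero_comp, Linear.smul_comp, h0]
  · intro h e
    obtain ⟨g, hg⟩ := (shiftFunctor (Dual.D A) n).map_surjective (e ≫ ε.hom)
    obtain ⟨t, ht, h0⟩ := h g
    refine ⟨t, ht, ?_⟩
    rw [← cancel_mono ε.hom, zero_comp, Linear.smul_comp, ← hg, ← Functor.map_smul, h0,
      Functor.map_zero]

/-- exactness in the middle. -/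
lemma Z.mid [hq : q.IsPrime] {T : Triangle (Dual.D A)} (hT : T ∈ distTriang (Dual.D A)) {i : ℤ}
    (h1 : Z q R T.obj₁ i) (h3 : Z q R T.obj₃ i) : Z q R T.obj₂ i := by
  intro e
  obtain ⟨t, ht, h0⟩ := h1 (T.mor₁ ≫ e)
  rw [← Linear.comp_smul] at h0
  obtain ⟨e', he'⟩ := Triangle.yoneda_exact₂ T hT (t • e) h0
  obtain ⟨t', ht', h0'⟩ := h3 e'
  refine ⟨t' * t, fun h => ?_, ?_⟩
  · rcases hq.mem_or_mem h with h | h
    · exact ht' h
    · exact ht h
  · rw [mul_smul, he', ← Linear.comp_smul, h0', comp_zero]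

lemma Z.third [hq : q.IsPrime] {T : Triangle (Dual.D A)} (hT : T ∈ distTriang (Dual.D A)) {i j : ℤ}
    (hij : j + 1 = i) (h1 : Z q R T.obj₁ j) (h2 : Z q R T.obj₂ i) : Z q R T.obj₃ i :=
  Z.mid (rot_of_distTriang _ hT) h2 ((Z.shift_iff T.obj₁ 1 i j hij).2 h1)

lemma Z.first [hq : q.IsPrime] {T : Triangle (Dual.D A)} (hT : T ∈ distTriang (Dual.D A)) {i j : ℤ}
    (hij : j + 1 = i) (h2 : Z q R T.obj₂ j) (h3 : Z q R T.obj₃ i) : Z q R T.obj₁ j :=
  (Z.shift_iff T.obj₁ 1 i j hij).1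
    (Z.mid (rot_of_distTriang _ (rot_of_distTriang _ hT)) h3 ((Z.shift_iff T.obj₂ 1 i j hij).2 h2))

lemma Z.of_smul {X : Dual.D A} {i : ℤ} {t : A} (ht : t ∉ q) (h : t • 𝟙 X = 0) : Z q R X i :=
  fun e => ⟨t, ht, by rw [← Category.id_comp e, ← Linear.smul_comp, h, zero_comp]⟩

section Modules

/-- `x` is good for the module `H` and the prime `p`. -/
def Good (p : PrimeSpectrum A) (x : A) (H : Type u) [AddCommGroup H] [Module A H] : Prop :=
  ∀ (q : Ideal A), q.IsPrime → x ∉ q → ∀ (R : Dual.D A) (s : ℤ),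
    (∀ i, s < i → Z q R (Dual.inD A (A ⧸ p.asIdeal)) i) →
    (∀ i, s < i → Z q R (Dual.inD A H) i) ∧
    (p ∉ Module.support A H → ∀ i, Z q R (Dual.inD A H) i) ∧
    (p ∈ Module.support A H → Z q R (Dual.inD A H) s → Z q R (Dual.inD A (A ⧸ p.asIdeal)) s)

lemma Good.mul_left {p : PrimeSpectrum A} {x : A} {H : Type u} [AddCommGroup H] [Module A H]
    (h : Good p x H) (y : A) : Good p (y * x) H := fun q hq hx R s hs =>
  h q hq (fun h => hx (q.mul_mem_left y h)) R s hs

lemma Good.mul_right {p : PrimeSpectrum A} {x : A} {H : Type u} [AddCommGroup H] [Module A H]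
    (h : Good p x H) (y : A) : Good p (x * y) H := by
  rw [mul_comm]; exact h.mul_left y

theorem exists_good [IsNoetherianRing A] (p : PrimeSpectrum A) (H : Type u) [AddCommGroup H]
    [Module A H] [Module.Finite A H] (hH : ∀ p' ∈ Module.support A H, p ≤ p') :
    ∃ x : A, x ∉ p.asIdeal ∧ Good p x H := by
  revert hH
  refine IsNoetherianRing.induction_on_isQuotientEquivQuotientPrime A (M := H) inferInstance
    (motive := fun N _ _ _ => (∀ p' ∈ Module.support A N, p ≤ p') →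
      ∃ x : A, x ∉ p.asIdeal ∧ Good p x N) ?_ ?_ ?_
  · intro N _ _ _ _ _
    refine ⟨1, (Ideal.ne_top_iff_one _).1 p.2.ne_top, fun q hq _ R s _ => ?_⟩
    have hz : IsZero (Dual.inD A N) :=
      (singleFunctor (ModuleCat.{u} A) 0).map_isZero (ModuleCat.isZero_of_subsingleton _)
    refine ⟨fun i _ => Z.of_isZero hz hq.ne_top i, fun _ i => Z.of_isZero hz hq.ne_top i,
      fun h => ?_⟩
    rw [Module.support_eq_empty] at h
    exact h.elim
  · intro N _ _ _ p' e hN
    have hsupp : Module.support A N = PrimeSpectrum.zeroLocus p'.asIdeal := by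
      rw [LinearEquiv.support_eq e, Module.support_eq_zeroLocus, Ideal.annihilator_quotient]
    have hpp' : p ≤ p' := hN p' (by rw [hsupp]; exact (PrimeSpectrum.mem_zeroLocus _ _).2 (Set.Subset.refl _))
    let ε : Dual.inD A N ≅ Dual.inD A (A ⧸ p'.asIdeal) :=
      (singleFunctor (ModuleCat.{u} A) 0).mapIso e.toModuleIso
    by_cases h : p' = p
    · subst h
      refine ⟨1, (Ideal.ne_top_iff_one _).1 p'.2.ne_top, fun q hq _ R s hs => ?_⟩
      refine ⟨fun i hi => (hs i hi).of_iso ε.symm, fun h => ?_, fun _ h => h.of_iso ε⟩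
      exact (h (by rw [hsupp]; exact (PrimeSpectrum.mem_zeroLocus _ _).2 (Set.Subset.refl _))).elim
    · obtain ⟨x, hx, hxp⟩ : ∃ x, x ∈ p'.asIdeal ∧ x ∉ p.asIdeal := by
        by_contra hcon
        push Not at hcon
        exact h (le_antisymm hcon hpp')
      refine ⟨x, hxp, fun q hq hxq R s hs => ?_⟩
      have h0 : x • 𝟙 (Dual.inD A (A ⧸ p'.asIdeal)) = 0 :=
        LocDualMod.smul_id_inD fun y => by
          obtain ⟨y, rfl⟩ := Ideal.Quotient.mk_surjective y
          rw [Algebra.smul_def, Ideal.Quotient.algebraMap_eq, Ideal.Quotient.eq_zero_iff_mem.2 hx,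
            zero_mul]
      have h1 : ∀ i, Z q R (Dual.inD A N) i := fun i => (Z.of_smul hxq h0).of_iso ε.symm
      refine ⟨fun i _ => h1 i, fun _ => h1, fun hp => ?_⟩
      rw [hsupp] at hp
      exact (hxp (hp hx)).elim
  · intro N₁ _ _ _ N₂ _ _ _ N₃ _ _ _ f g hf hg hfg ih₁ ih₃ hN
    have hs := Module.support_of_exact hfg hf hg
    obtain ⟨x₁, hx₁, hG₁⟩ := ih₁ fun p' hp' => hN p' (by rw [hs]; exact Or.inl hp')
    obtain ⟨x₃, hx₃, hG₃⟩ := ih₃ fun p' hp' => hN p' (by rw [hs]; exact Or.inr hp')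
    refine ⟨x₁ * x₃, fun h => ?_, fun q hq hxq R s hZ => ?_⟩
    · rcases p.2.mem_or_mem h with h | h
      · exact hx₁ h
      · exact hx₃ h
    obtain ⟨a₁, b₁, c₁⟩ := hG₁.mul_right x₃ q hq hxq R s hZ
    obtain ⟨a₃, b₃, c₃⟩ := hG₃.mul_left x₁ q hq hxq R s hZ
    have hT := (FinInj.shortExact f g hf hfg hg).singleTriangle_distinguished
    refine ⟨fun i hi => Z.mid hT (a₁ i hi) (a₃ i hi), fun hp i => ?_, fun hp h2 => ?_⟩
    · rw [hs, Set.mem_union, not_or] at hp
      exact Z.mid hT (b₁ hp.1 i) (b₃ hp.2 i)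
    · by_cases h1 : p ∈ Module.support A N₁
      · exact c₁ h1 (Z.first hT rfl h2 (a₃ (s + 1) (by omega)))
      · have h3 : p ∈ Module.support A N₃ := by
          rw [hs, Set.mem_union] at hp
          exact hp.resolve_left h1
        exact c₃ h3 (Z.third hT (j := s - 1) (by omega) (b₁ h1 _) h2)

end Modules

section Complexes

/-- top corner argument. -/
theorem corner [IsNoetherianRing A] (p : PrimeSpectrum A) (n : ℕ) : ∀ (X : Dual.D A)
    (_ : X.IsGE (-(n : ℤ) + 1)) (_ : X.IsLE 0) (_ : ∀ i, Module.Finite A (Dual.HD A X i))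
    (_ : ∀ i, ∀ p' ∈ Module.support A (Dual.HD A X i), p ≤ p'),
    ∃ x : A, x ∉ p.asIdeal ∧ ∀ (q : Ideal A), q.IsPrime → x ∉ q → ∀ (R : Dual.D A) (s : ℤ),
      (∀ i, s < i → Z q R (Dual.inD A (A ⧸ p.asIdeal)) i) →
      (∀ i, s + n ≤ i → Z q R X i) ∧
      ((∃ j, p ∈ Module.support A (Dual.HD A X j)) → (∀ i, s ≤ i → Z q R X i) →
        Z q R (Dual.inD A (A ⧸ p.asIdeal)) s) := by
  induction n with
  | zero =>
    intro X hG hL _ _
    refine ⟨1, (Ideal.ne_top_iff_one _).1 p.2.ne_top, fun q hq _ R s _ => ?_⟩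
    have hz : IsZero X := isZero_of_isGE_of_isLE X (-((0 : ℕ) : ℤ) + 1) 0 (by simp)
    refine ⟨fun i _ => Z.of_isZero hz hq.ne_top i, ?_⟩
    rintro ⟨j, hj⟩ _
    have : Subsingleton (Dual.HD A X j) := ModuleCat.subsingleton_of_isZero
      ((homologyFunctor (ModuleCat.{u} A) j).map_isZero hz)
    rw [Module.support_eq_empty] at hj
    exact hj.elim
  | succ n ih =>
    intro X hG hL hfin hsupp
    obtain ⟨T, hT, rfl, hT1, hT3, hi1, hi3⟩ := exists_trunc X (-(n : ℤ)) (-(n : ℤ) + 1) rfl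
    have hT1' : T.obj₁.IsGE (-(n : ℤ)) := by
      rw [isGE_iff]
      intro j hj
      have := hi1 j (by omega)
      have h0 : IsZero ((homologyFunctor (ModuleCat.{u} A) j).obj T.obj₂) :=
        T.obj₂.isZero_of_isGE (-((n + 1 : ℕ) : ℤ) + 1) j (by push_cast; omega)
      exact h0.of_iso (asIso ((homologyFunctor (ModuleCat.{u} A) j).map T.mor₁))
    have hT3' : T.obj₃.IsLE 0 := by
      rw [isLE_iff]
      intro j hj
      have := hi3 j (by omega)
      have h0 : IsZero ((homologyFunctor (ModuleCat.{u} A) j).obj T.obj₂) :=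
        T.obj₂.isZero_of_isLE 0 j hj
      exact h0.of_iso (asIso ((homologyFunctor (ModuleCat.{u} A) j).map T.mor₂)).symm
    have hiso3 : ∀ j, -(n : ℤ) + 1 ≤ j → Nonempty (Dual.HD A T.obj₂ j ≃ₗ[A] Dual.HD A T.obj₃ j) := by
      intro j hj
      have := hi3 j hj
      exact ⟨(asIso ((homologyFunctor (ModuleCat.{u} A) j).map T.mor₂)).toLinearEquiv⟩
    have hsub3 : ∀ j, j < -(n : ℤ) + 1 → Subsingleton (Dual.HD A T.obj₃ j) := fun j hj =>
      ModuleCat.subsingleton_of_isZero (T.obj₃.isZero_of_isGE _ j hj)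
    obtain ⟨x₃, hx₃, h₃⟩ := ih T.obj₃ hT3 hT3' (fun i => by
      by_cases hi : -(n : ℤ) + 1 ≤ i
      · obtain ⟨e⟩ := hiso3 i hi
        have := hfin i
        exact Module.Finite.equiv e
      · have := hsub3 i (by omega)
        infer_instance) (fun i p' hp' => by
      by_cases hi : -(n : ℤ) + 1 ≤ i
      · obtain ⟨e⟩ := hiso3 i hi
        exact hsupp i p' (by rw [e.support_eq]; exact hp')
      · have := hsub3 i (by omega)
        rw [Module.support_eq_empty] at hp'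
        exact hp'.elim)
    obtain ⟨e1⟩ := nonempty_iso_single T.obj₁ (-(n : ℤ))
    have hi1n := hi1 (-(n : ℤ)) le_rfl
    let eH : Dual.HD A T.obj₁ (-(n : ℤ)) ≃ₗ[A] Dual.HD A T.obj₂ (-(n : ℤ)) :=
      (asIso ((homologyFunctor (ModuleCat.{u} A) (-(n : ℤ))).map T.mor₁)).toLinearEquiv
    have hHfin : Module.Finite A (Dual.HD A T.obj₁ (-(n : ℤ))) := by
      have := hfin (-(n : ℤ))
      exact Module.Finite.equiv eH.symm
    obtain ⟨x₁, hx₁, h₁⟩ := exists_good p (Dual.HD A T.obj₁ (-(n : ℤ)))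
      (fun p' hp' => hsupp _ p' (by rw [← eH.support_eq]; exact hp'))
    -- `T.obj₁ = H[n]`
    have e1' : T.obj₁ ≅ (Dual.inD A (Dual.HD A T.obj₁ (-(n : ℤ))))⟦(n : ℤ)⟧ :=
      e1 ≪≫ (((singleFunctors (ModuleCat.{u} A)).shiftIso (n : ℤ) (-(n : ℤ)) 0 (by omega)).app
        _).symm
    have hZ1 : ∀ (q : Ideal A) (R : Dual.D A) (i j : ℤ), j + n = i →
        (Z q R T.obj₁ i ↔ Z q R (Dual.inD A (Dual.HD A T.obj₁ (-(n : ℤ)))) j) := by
      intro q R i j hij
      rw [← Z.shift_iff _ (n : ℤ) i j hij]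
      exact ⟨fun h => h.of_iso e1', fun h => h.of_iso e1'.symm⟩
    refine ⟨x₁ * x₃, fun h => ?_, fun q hq hxq R s hZ => ?_⟩
    · rcases p.2.mem_or_mem h with h | h
      · exact hx₁ h
      · exact hx₃ h
    have hxq1 : x₁ ∉ q := fun h => hxq (q.mul_mem_right _ h)
    have hxq3 : x₃ ∉ q := fun h => hxq (q.mul_mem_left _ h)
    obtain ⟨a₁, b₁, c₁⟩ := h₁ q hq hxq1 R s hZ
    obtain ⟨a₃, b₃⟩ := h₃ q hq hxq3 R s hZ
    constructor
    · intro i hi
      push_cast at hi
      exact Z.mid hT ((hZ1 q R i (i - n) (by omega)).2 (a₁ _ (by omega))) (a₃ i (by omega))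
    · rintro ⟨j, hj⟩ h2
      by_cases hp : p ∈ Module.support A (Dual.HD A T.obj₁ (-(n : ℤ)))
      · refine c₁ hp ((hZ1 q R (s + n) s rfl).1 ?_)
        exact Z.first hT rfl (h2 _ (by omega)) (a₃ _ (by omega))
      · refine b₃ ⟨j, ?_⟩ fun i hi => Z.third hT (j := i - 1) (by omega)
          ((hZ1 q R (i - 1) (i - 1 - n) (by omega)).2 (b₁ hp _)) (h2 i hi)
        have hj' : -(n : ℤ) + 1 ≤ j := by
          by_contra hcon
          have hjn : j ≤ -(n : ℤ) := by omega
          rcases hjn.lt_or_eq with h | h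
          · have : Subsingleton (Dual.HD A T.obj₂ j) := ModuleCat.subsingleton_of_isZero
              (T.obj₂.isZero_of_isGE (-((n + 1 : ℕ) : ℤ) + 1) j (by push_cast; omega))
            rw [Module.support_eq_empty] at hj
            exact hj.elim
          · subst h
            exact hp (by rw [eH.support_eq]; exact hj)
        obtain ⟨e⟩ := hiso3 j hj'
        rw [← e.support_eq]
        exact hj

end Complexes

end K174.BddInj
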