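import Groth.Agent.Dual.K174.BddInj
import Groth.Agent.LoccohB.GorNak
import Groth.Agent.LoccohB.FlatDual

/-!
# Bounded injective dimension over a Noetherian ring from local finite injective dimension, II

Koszul complexes; `Hom(M, R[i]) = 0` for `i` large.
-/

set_option autoImplicit false
universe u

open CategoryTheory CategoryTheory.Limits Pretriangulated
open scoped TensorProduct

attribute [local instance] HasDerivedCategory.standard

namespace K174.BddInj2

open DerivedCategory Groth.Agent.LoccohB Groth.Agent.LoccohB.Devissage K174.BddInj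
  Groth.Agent.LoccohB.KosP

variable {A : Type u} [CommRing A]

section Koszul

lemma isZero_kc_neg (l : List A) (i : ℤ) (hi : i < -(l.length : ℤ)) : IsZero ((kc l).X i) := by
  induction l generalizing i with
  | nil => exact HomologicalComplex.isZero_single_obj_X (ComplexShape.up ℤ) 0 _ i (by simp at hi; omega)
  | cons f l ih =>
    rw [List.length_cons] at hi
    push_cast at hi
    refine IsZero.of_iso ?_ (HomologicalComplex.homotopyCofiber.XIsoBiprod (f • 𝟙 (kc l)) i (i + 1)
      (by simp))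
    rw [biprod_isZero_iff]
    exact ⟨ih (i + 1) (by omega), ih i (by omega)⟩

lemma isLE_kP (l : List A) : (kP l).IsLE 0 :=
  K228.Basic.isLE_of_subsingleton _ _ fun i hi =>
    K228.TorPerf.isZero_hd_of_vanishes (kc l) (Iso.refl _) i (isZero_kc l i hi)

lemma isGE_kP (l : List A) : (kP l).IsGE (-(l.length : ℤ)) :=
  K228.Basic.isGE_of_subsingleton _ _ fun i hi =>
    K228.TorPerf.isZero_hd_of_vanishes (kc l) (Iso.refl _) i (isZero_kc_neg l i hi)

/-- `kP [] = A`. -/
noncomputable def kPNil : kP ([] : List A) ≅ Dual.inD A A :=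
  ((singleFunctorIsoCompQ (ModuleCat.{u} A) 0).app (ModuleCat.of A A)).symm

lemma finite_HD_of_iso {K L : Dual.D A} (e : K ≅ L) (i : ℤ) (h : Module.Finite A (Dual.HD A K i)) :
    Module.Finite A (Dual.HD A L i) :=
  Module.Finite.equiv ((homologyFunctor (ModuleCat.{u} A) i).mapIso e).toLinearEquiv

lemma finite_kP [IsNoetherianRing A] (l : List A) (i : ℤ) : Module.Finite A (Dual.HD A (kP l) i) := by
  induction l generalizing i with
  | nil => exact finite_HD_of_iso kPNil.symm i (FlatDual.finite_HD_inD A i)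
  | cons f l ih =>
    obtain ⟨_, _, hT⟩ := kP_tri f l
    exact GorNak.finite_HD_third _ hT ih ih i

/-- support of the cohomology of the Koszul complex. -/
lemma supp_kP [IsNoetherianRing A] (I : Ideal A) (l : List A) (hl : Ideal.span {f | f ∈ l} = I)
    (i : ℤ) (p : PrimeSpectrum A) (hp : p ∈ Module.support A (Dual.HD A (kP l) i)) :
    I ≤ p.asIdeal := by
  obtain ⟨N, hN⟩ := exists_pow_smul_kP I l hl
  have h1 := Module.annihilator_le_of_mem_support hp
  have h2 : I ^ N ≤ p.asIdeal := by
    refine le_trans (fun a ha => ?_) h1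
    rw [Module.mem_annihilator]
    intro m
    have h3 : a • 𝟙 ((homologyFunctor (ModuleCat.{u} A) i).obj (kP l)) = 0 := by
      rw [← CategoryTheory.Functor.map_id, ← Functor.map_smul, hN a ha, Functor.map_zero]
    exact congrArg (fun f => f.hom m) h3
  exact p.2.le_of_pow_le h2

lemma epi_hd_inDMap {M N : Type u} [AddCommGroup M] [Module A M] [AddCommGroup N] [Module A N]
    (g : M →ₗ[A] N) (hg : Function.Surjective g) :
    Epi ((homologyFunctor (ModuleCat.{u} A) 0).map (FinInj.inDMap g)) := by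
  have : Epi (ModuleCat.ofHom g) := (ModuleCat.epi_iff_surjective _).2 hg
  have h : (homologyFunctor (ModuleCat.{u} A) 0).map (FinInj.inDMap g) =
      (singleFunctorCompHomologyFunctorIso (ModuleCat.{u} A) 0).hom.app (ModuleCat.of A M) ≫
        ModuleCat.ofHom g ≫
        (singleFunctorCompHomologyFunctorIso (ModuleCat.{u} A) 0).inv.app (ModuleCat.of A N) := by
    have := (singleFunctorCompHomologyFunctorIso (ModuleCat.{u} A) 0).hom.naturality (ModuleCat.ofHom g)
    rw [Functor.id_map] at this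
    rw [← Category.assoc, ← this, Category.assoc, Iso.hom_inv_id_app, Category.comp_id]
    rfl
  rw [h]
  infer_instance

/-- The top cohomology of the Koszul complex surjects onto `A/J`. -/
lemma exists_kP_epi (J : Ideal A) (l : List A) (hl : ∀ f ∈ l, f ∈ J) :
    ∃ u : kP l ⟶ Dual.inD A (A ⧸ J), Epi ((homologyFunctor (ModuleCat.{u} A) 0).map u) := by
  induction l with
  | nil =>
    refine ⟨kPNil.hom ≫ FinInj.inDMap J.mkQ, ?_⟩
    rw [Functor.map_comp]
    have := epi_hd_inDMap J.mkQ (Submodule.mkQ_surjective J)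
    infer_instance
  | cons f l ih =>
    obtain ⟨u, hu⟩ := ih fun g hg => hl g (List.mem_cons_of_mem _ hg)
    obtain ⟨i, δ, hT⟩ := kP_tri f l
    have h0 : f • u = 0 := by
      have h1 : f • 𝟙 (Dual.inD A (A ⧸ J)) = 0 := LocDualMod.smul_id_inD fun y => by
        obtain ⟨y, rfl⟩ := Ideal.Quotient.mk_surjective y
        rw [Algebra.smul_def, Ideal.Quotient.algebraMap_eq,
          Ideal.Quotient.eq_zero_iff_mem.2 (hl f List.mem_cons_self), zero_mul]
      rw [← Category.comp_id u, ← Linear.comp_smul, h1, comp_zero]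
    obtain ⟨v, hv⟩ : ∃ v : kP (f :: l) ⟶ Dual.inD A (A ⧸ J), u = i ≫ v :=
      Triangle.yoneda_exact₂ _ hT u (by
        change (f • 𝟙 (kP l)) ≫ u = 0
        rw [Linear.smul_comp, Category.id_comp, h0])
    refine ⟨v, ?_⟩
    rw [hv, Functor.map_comp] at hu
    exact epi_of_epi ((homologyFunctor (ModuleCat.{u} A) 0).map i)
      ((homologyFunctor (ModuleCat.{u} A) 0).map v)

lemma mem_supp_kP (p : PrimeSpectrum A) (l : List A) (hl : ∀ f ∈ l, f ∈ p.asIdeal) :
    p ∈ Module.support A (Dual.HD A (kP l) 0) := by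
  obtain ⟨u, hu⟩ := exists_kP_epi p.asIdeal l hl
  refine Module.support_subset_of_surjective ((homologyFunctor (ModuleCat.{u} A) 0).map u).hom
    ((ModuleCat.epi_iff_surjective _).1 hu) ?_
  have e : Dual.HD A (Dual.inD A (A ⧸ p.asIdeal)) 0 ≃ₗ[A] (A ⧸ p.asIdeal) :=
    ((singleFunctorCompHomologyFunctorIso (ModuleCat.{u} A) 0).app
      (ModuleCat.of A (A ⧸ p.asIdeal))).toLinearEquiv
  rw [e.support_eq, Module.support_eq_zeroLocus, Ideal.annihilator_quotient]
  exact (PrimeSpectrum.mem_zeroLocus _ _).2 (Set.Subset.refl _)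

/-- `Hom(K, R[i]) = 0` for `i > b + r`. -/
lemma subsingleton_kP (l : List A) (R : Dual.D A) (b : ℤ) [R.IsLE b] (i : ℤ)
    (hi : b + l.length < i) : Subsingleton (kP l ⟶ R⟦i⟧) := by
  have : (R⟦i⟧).IsLE (b - i) := TStructure.t.isLE_shift R b i (b - i) (by omega)
  exact K174.SymHom.subsingleton_of_proj (kc l) (-(l.length : ℤ)) (isZero_kc_neg l) _ (b - i)
    (by omega)

end Koszul

/-- The uniform bound on an open subset of `V(p)`. -/
theorem exists_bound [IsNoetherianRing A] (R : Dual.D A) (b : ℤ) [R.IsLE b]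
    (hR : ∀ q : PrimeSpectrum A, ∀ (M : Type u) [AddCommGroup M] [Module A M] [Module.Finite A M],
      ∃ n : ℤ, ∀ i, n < i → Z q.asIdeal R (Dual.inD A M) i) (p : PrimeSpectrum A) :
    ∃ (x : A) (m : ℤ), x ∉ p.asIdeal ∧ ∀ q : PrimeSpectrum A, x ∉ q.asIdeal → ∀ i, m < i →
      Z q.asIdeal R (Dual.inD A (A ⧸ p.asIdeal)) i := by
  obtain ⟨S, hS⟩ := (IsNoetherian.noetherian p.asIdeal : p.asIdeal.FG)
  let l : List A := S.toList
  have hl : Ideal.span {f | f ∈ l} = p.asIdeal := by
    rw [← hS]
    congr 1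
    ext f
    simp [l]
  have hl' : ∀ f ∈ l, f ∈ p.asIdeal := fun f hf => by
    rw [← hl]
    exact Ideal.subset_span hf
  have h1 : (kP l).IsGE (-((l.length + 1 : ℕ) : ℤ) + 1) := by
    have := isGE_kP l
    have h : (-((l.length + 1 : ℕ) : ℤ) + 1) = -(l.length : ℤ) := by push_cast; ring
    rw [h]
    exact this
  obtain ⟨x, hx, h⟩ := corner p (l.length + 1) (kP l) h1 (isLE_kP l) (finite_kP l)
    (fun i p' hp' => supp_kP p.asIdeal l hl i p' hp')
  refine ⟨x, b + l.length, hx, fun q hxq => ?_⟩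
  obtain ⟨n, hn⟩ := hR q (A ⧸ p.asIdeal)
  have key : ∀ k : ℕ, ∀ i, b + l.length < i → n - k < i →
      Z q.asIdeal R (Dual.inD A (A ⧸ p.asIdeal)) i := by
    intro k
    induction k with
    | zero => exact fun i _ hi => hn i (by simpa using hi)
    | succ k ih =>
      intro i hi1 hi2
      by_cases hi3 : n - k < i
      · exact ih i hi1 hi3
      · push_cast at hi2
        refine (h q.asIdeal q.2 hxq R i fun j hj => ih j (by omega) (by omega)).2
          ⟨0, mem_supp_kP p l hl'⟩ fun j hj => ?_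
        have := subsingleton_kP l R b j (by omega)
        exact fun e => ⟨1, (Ideal.ne_top_iff_one _).1 q.2.ne_top, Subsingleton.elim _ _⟩
  intro i hi
  exact key (n - i + 1).toNat i hi (by
    have := Int.self_le_toNat (n - i + 1)
    omega)

/-- boundedness for `M`. -/
def Bdd (R : Dual.D A) (M : Type u) [AddCommGroup M] [Module A M] : Prop :=
  ∃ N : ℤ, ∀ i, N < i → Subsingleton (Dual.inD A M ⟶ R⟦i⟧)

lemma bdd_of_supp [IsNoetherianRing A] (R : Dual.D A) (M : Type u) [AddCommGroup M] [Module A M]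
    [Module.Finite A M] (h : ∀ p ∈ Module.support A M, Bdd R (A ⧸ p.asIdeal)) : Bdd R M := by
  revert h
  refine IsNoetherianRing.induction_on_isQuotientEquivQuotientPrime A (M := M) inferInstance
    (motive := fun N _ _ _ => (∀ p ∈ Module.support A N, Bdd R (A ⧸ p.asIdeal)) → Bdd R N) ?_ ?_ ?_
  · intro N _ _ _ _ _
    refine ⟨0, fun i _ => ?_⟩
    have hz : IsZero (Dual.inD A N) :=
      (singleFunctor (ModuleCat.{u} A) 0).map_isZero (ModuleCat.isZero_of_subsingleton _)
    exact ⟨fun _ _ => hz.eq_of_src _ _⟩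
  · intro N _ _ _ p e hN
    obtain ⟨n, hn⟩ := hN p (by
      rw [LinearEquiv.support_eq e, Module.support_eq_zeroLocus, Ideal.annihilator_quotient]
      exact (PrimeSpectrum.mem_zeroLocus _ _).2 (Set.Subset.refl _))
    refine ⟨n, fun i hi => ?_⟩
    let ε : Dual.inD A N ≅ Dual.inD A (A ⧸ p.asIdeal) :=
      (singleFunctor (ModuleCat.{u} A) 0).mapIso e.toModuleIso
    exact (ε.homCongr (Iso.refl _)).subsingleton_congr.2 (hn i hi)
  · intro N₁ _ _ _ N₂ _ _ _ N₃ _ _ _ f g hf hg hfg ih₁ ih₃ hN
    have hs := Module.support_of_exact hfg hf hg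
    obtain ⟨n₁, h₁⟩ := ih₁ fun p hp => hN p (by rw [hs]; exact Or.inl hp)
    obtain ⟨n₃, h₃⟩ := ih₃ fun p hp => hN p (by rw [hs]; exact Or.inr hp)
    refine ⟨max n₁ n₃, fun i hi => ?_⟩
    exact FinInj.subsingleton_middle f g hf hfg hg (h₁ i (lt_of_le_of_lt (le_max_left _ _) hi))
      (h₃ i (lt_of_le_of_lt (le_max_right _ _) hi))

theorem bdd_quotient [IsNoetherianRing A] (R : Dual.D A) (b : ℤ) [R.IsLE b]
    (hR : ∀ q : PrimeSpectrum A, ∀ (M : Type u) [AddCommGroup M] [Module A M] [Module.Finite A M],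
      ∃ n : ℤ, ∀ i, n < i → Z q.asIdeal R (Dual.inD A M) i) (p : PrimeSpectrum A) :
    Bdd R (A ⧸ p.asIdeal) := by
  have : WellFoundedGT (PrimeSpectrum A) :=
    ⟨InvImage.wf PrimeSpectrum.asIdeal (wellFounded_gt (α := Ideal A))⟩
  induction p using WellFoundedGT.induction with
  | ind p ih =>
    obtain ⟨x, m, hx, h⟩ := exists_bound R b hR p
    let f : (A ⧸ p.asIdeal) →ₗ[A] (A ⧸ p.asIdeal) := LinearMap.lsmul A _ x
    have hf : Function.Injective f := by
      rw [injective_iff_map_eq_zero]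
      intro y hy
      have h1 : (algebraMap A (A ⧸ p.asIdeal) x) * y = 0 := by
        rw [← Algebra.smul_def]; exact hy
      rcases mul_eq_zero.1 h1 with h2 | h2
      · exact (hx (Ideal.Quotient.eq_zero_iff_mem.1 h2)).elim
      · exact h2
    obtain ⟨n, hn⟩ : Bdd R ((A ⧸ p.asIdeal) ⧸ LinearMap.range f) := by
      refine bdd_of_supp R _ fun p' hp' => ih p' ?_
      have h1 := Module.annihilator_le_of_mem_support hp'
      refine lt_of_le_of_ne (fun a ha => h1 ?_) ?_
      · rw [Module.mem_annihilator]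
        intro y
        obtain ⟨y, rfl⟩ := Submodule.Quotient.mk_surjective _ y
        obtain ⟨y, rfl⟩ := Ideal.Quotient.mk_surjective y
        rw [← Submodule.Quotient.mk_smul, Algebra.smul_def, Ideal.Quotient.algebraMap_eq,
          Ideal.Quotient.eq_zero_iff_mem.2 ha, zero_mul, Submodule.Quotient.mk_zero]
      · rintro rfl
        apply hx
        apply h1
        rw [Module.mem_annihilator]
        intro y
        obtain ⟨y, rfl⟩ := Submodule.Quotient.mk_surjective _ y
        rw [← Submodule.Quotient.mk_smul, Submodule.Quotient.mk_eq_zero]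
        exact ⟨y, rfl⟩
    refine ⟨max n m, fun i hi => ?_⟩
    have hin : n < i := lt_of_le_of_lt (le_max_left _ _) hi
    have him : m < i := lt_of_le_of_lt (le_max_right _ _) hi
    have hinj : ∀ e : Dual.inD A (A ⧸ p.asIdeal) ⟶ R⟦i⟧, x • e = 0 → e = 0 := by
      intro e he
      have h1 : FinInj.inDMap f = x • 𝟙 (Dual.inD A (A ⧸ p.asIdeal)) := by
        have h2 : ModuleCat.ofHom f = x • 𝟙 (ModuleCat.of A (A ⧸ p.asIdeal)) := by
          rfl
        rw [FinInj.inDMap, h2, Functor.map_smul, CategoryTheory.Functor.map_id]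
      obtain ⟨y, hy⟩ := FinInj.exists_of_comp_eq_zero f (LinearMap.range f).mkQ e (by
        rw [h1, Linear.smul_comp, Category.id_comp, he]) hf
        (LinearMap.exact_map_mkQ_range f) (Submodule.mkQ_surjective _)
      have := hn i hin
      rw [hy, Subsingleton.elim y 0, comp_zero]
    have key : ∀ e : Dual.inD A (A ⧸ p.asIdeal) ⟶ R⟦i⟧, e = 0 := by
      intro e
      have hx : x ∈ Ideal.radical (LinearMap.ker (LinearMap.toSpanSingleton A _ e)) := by
        rw [Ideal.radical_eq_sInf, Ideal.mem_sInf]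
        rintro J ⟨hJ1, hJ2⟩
        by_contra hxJ
        obtain ⟨t, ht, h0⟩ := h ⟨J, hJ2⟩ hxJ i him e
        exact ht (hJ1 (by simpa using h0))
      obtain ⟨k, hk⟩ := hx
      have hk' : x ^ k • e = 0 := by simpa using hk
      clear hk
      induction k with
      | zero => simpa using hk'
      | succ k ih =>
        apply ih
        apply hinj
        rw [smul_smul, ← pow_succ']
        exact hk'
    exact ⟨fun e e' => by rw [key e, key e']⟩

theorem bdd [IsNoetherianRing A] (R : Dual.D A) (b : ℤ) [R.IsLE b]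
    (hR : ∀ q : PrimeSpectrum A, ∀ (M : Type u) [AddCommGroup M] [Module A M] [Module.Finite A M],
      ∃ n : ℤ, ∀ i, n < i → Z q.asIdeal R (Dual.inD A M) i) (M : Type u) [AddCommGroup M]
    [Module A M] [Module.Finite A M] : Bdd R M :=
  bdd_of_supp R M fun p _ => bdd_quotient R b hR p

/-- If `A_q ⊗ E = 0` every element of `E` is killed by an element outside `q`. -/
lemma exists_smul_eq_zero (q : Ideal A) [q.IsPrime] (E : Type*) [AddCommGroup E] [Module A E]
    (h : Subsingleton (Localization.AtPrime q ⊗[A] E)) (e : E) : ∃ t : A, t ∉ q ∧ t • e = 0 := by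
  have h1 : IsLocalizedModule q.primeCompl (TensorProduct.mk A (Localization.AtPrime q) E 1) :=
    (isLocalizedModule_iff_isBaseChange q.primeCompl (Localization.AtPrime q) _).2
      (TensorProduct.isBaseChange A E (Localization.AtPrime q))
  obtain ⟨t, ht⟩ := (IsLocalizedModule.eq_zero_iff q.primeCompl
    (TensorProduct.mk A (Localization.AtPrime q) E 1)).1 (h.elim _ 0 : _ ⊗ₜ[A] e = 0)
  exact ⟨t.1, t.2, ht⟩

/-- finite injective dimension at `q`. -/
theorem exists_Z [IsNoetherianRing A] (R : Dual.D A) (a : ℤ) [R.IsGE a] (q : PrimeSpectrum A)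
    [DRing.HasLBaseChange (algebraMap A (Localization.AtPrime q.asIdeal))]
    (hq : DRing.HasFiniteInjDim (Localization.AtPrime q.asIdeal)
      ((DRing.LBaseChange (algebraMap A (Localization.AtPrime q.asIdeal))).obj R))
    (M : Type u) [AddCommGroup M] [Module A M] [Module.Finite A M] :
    ∃ n : ℤ, ∀ i, n < i → Z q.asIdeal R (Dual.inD A M) i := by
  let B := Localization.AtPrime q.asIdeal
  have hflat : (algebraMap A B).Flat := RingHom.flat_algebraMap_iff.2 inferInstance
  rw [K174.Basic.hasFiniteInjDim_iff] at hq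
  obtain ⟨c, d, hcd⟩ := hq
  let G := FlatLBC.flatBC (algebraMap A B) hflat
  have eR : (DRing.LBaseChange (algebraMap A B)).obj R ≅ G.obj R :=
    (FlatLBC.LBaseChangeIso (algebraMap A B) hflat).app R
  have eM : G.obj (Dual.inD A M) ≅
      Dual.inD B ((ModuleCat.extendScalars.{u, u, u} (algebraMap A B)).obj (ModuleCat.of A M)) :=
    (FlatLBC.flatBCSingle (algebraMap A B) hflat 0).app (ModuleCat.of A M)
  refine ⟨d, fun i hi e => ?_⟩
  have h1 := hcd ((ModuleCat.extendScalars.{u, u, u} (algebraMap A B)).obj (ModuleCat.of A M)) i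
    (Or.inr hi)
  have h2 : Subsingleton (G.obj (Dual.inD A M) ⟶ (G.obj R)⟦i⟧) :=
    (eM.homCongr ((shiftFunctor (Dual.D B) i).mapIso eR.symm)).subsingleton_congr.2 h1
  have hg : (Dual.inD A M).IsGE 0 := by dsimp [Dual.inD]; infer_instance
  have hl : (Dual.inD A M).IsLE 0 := by dsimp [Dual.inD]; infer_instance
  have h3 := HomBC.bcShift_bijective B hflat (Dual.inD A M) 0 0 (FlatDual.finite_HD_inD M) R a i
  exact exists_smul_eq_zero q.asIdeal _ h3.1.subsingleton e

end K174.BddInj2
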