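import Groth.Agent.Localalg.Matlis5
import Mathlib.RingTheory.AdicCompletion.AsTensorProduct
import Mathlib.Algebra.FiveLemma
import Mathlib.LinearAlgebra.TensorProduct.RightExactness

/-!
# `Hom(Hom(X, E), E) = X ⊗ End(E)` and the completion

* `theta_bijective`: for `E` injective over a Noetherian ring and `X` finite, the natural map
  `End(E) ⊗ X → Hom(Hom(X, E), E)` is bijective.
* `nonempty_completion_equiv`: for `E` an injective hull of the residue field of a Noetherian local ring,
  `Hom(Hom(X, E), E)` is the completion of `X`.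
-/

set_option autoImplicit false
universe w v u

open scoped TensorProduct

namespace K174.BidualE

section

variable (A : Type u) [CommRing A] (E : Type u) [AddCommGroup E] [Module A E]

/-- The dual. -/
abbrev Dl (X : Type u) [AddCommGroup X] [Module A X] := X →ₗ[A] E

/-- The bidual. -/
abbrev T (X : Type u) [AddCommGroup X] [Module A X] := (X →ₗ[A] E) →ₗ[A] E

/-- Functoriality of the bidual. -/
def Tmap {X Y : Type u} [AddCommGroup X] [Module A X] [AddCommGroup Y] [Module A Y] (f : X →ₗ[A] Y) :
    T A E X →ₗ[A] T A E Y := (f.lcomp A E).lcomp A E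

lemma Tmap_apply {X Y : Type u} [AddCommGroup X] [Module A X] [AddCommGroup Y] [Module A Y]
    (f : X →ₗ[A] Y) (t : T A E X) (g : Y →ₗ[A] E) : Tmap A E f t g = t (g ∘ₗ f) := rfl

/-- `φ ⊗ x ↦ (g ↦ φ (g x))`. -/
def theta (X : Type u) [AddCommGroup X] [Module A X] : (E →ₗ[A] E) ⊗[A] X →ₗ[A] T A E X :=
  TensorProduct.lift
    { toFun := fun φ =>
        { toFun := fun x =>
            { toFun := fun g => φ (g x)
              map_add' := fun g h => by simp
              map_smul' := fun a g => by simp }
          map_add' := fun x y => by ext g; simp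
          map_smul' := fun a x => by ext g; simp }
      map_add' := fun φ ψ => by ext x g; simp
      map_smul' := fun a φ => by ext x g; simp }

@[simp] lemma theta_tmul (X : Type u) [AddCommGroup X] [Module A X] (φ : E →ₗ[A] E) (x : X)
    (g : X →ₗ[A] E) : theta A E X (φ ⊗ₜ x) g = φ (g x) := rfl

lemma theta_natural {X Y : Type u} [AddCommGroup X] [Module A X] [AddCommGroup Y] [Module A Y]
    (f : X →ₗ[A] Y) : Tmap A E f ∘ₗ theta A E X = theta A E Y ∘ₗ f.lTensor (E →ₗ[A] E) := by
  ext φ x g
  rfl

lemma theta_self_bijective : Function.Bijective (theta A E A) := by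
  let e : (A →ₗ[A] E) ≃ₗ[A] E := LinearMap.ringLmapEquivSelf A A E
  let e2 : (E →ₗ[A] E) ≃ₗ[A] T A E A :=
    { toFun := fun φ => φ ∘ₗ e.toLinearMap
      map_add' := fun φ ψ => by ext; rfl
      map_smul' := fun a φ => by ext; rfl
      invFun := fun t => t ∘ₗ e.symm.toLinearMap
      left_inv := fun φ => by ext; simp
      right_inv := fun t => by ext; simp }
  have h : theta A E A = e2.toLinearMap ∘ₗ (TensorProduct.rid A (E →ₗ[A] E)).toLinearMap := by
    apply TensorProduct.ext'
    intro φ a
    ext g
    change φ (g a) = (a • φ) (g 1)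
    rw [LinearMap.smul_apply, ← map_smul, ← map_smul, smul_eq_mul, mul_one]
  rw [h]
  exact e2.bijective.comp (LinearEquiv.bijective _)

/-- `theta` is bijective for `A^n`. -/
lemma theta_pi_bijective (n : ℕ) : Function.Bijective (theta A E (Fin n → A)) := by
  classical
  constructor
  · rw [injective_iff_map_eq_zero]
    intro z hz
    have h1 : ∀ i : Fin n, (LinearMap.proj i : (Fin n → A) →ₗ[A] A).lTensor (E →ₗ[A] E) z = 0 := by
      intro i
      apply (theta_self_bijective A E).1
      rw [← LinearMap.comp_apply, ← theta_natural, LinearMap.comp_apply, hz, map_zero, map_zero]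
    have h2 : (∑ i : Fin n, (LinearMap.single A (fun _ : Fin n => A) i) ∘ₗ
        (LinearMap.proj i : (Fin n → A) →ₗ[A] A)) = LinearMap.id := by
      ext i j
      simp [LinearMap.sum_apply, Pi.single_apply]
    have h3 : z = (LinearMap.id : (Fin n → A) →ₗ[A] (Fin n → A)).lTensor (E →ₗ[A] E) z := by
      rw [LinearMap.lTensor_id]; rfl
    rw [h3, ← h2, ← LinearMap.coe_lTensorHom, map_sum]
    simp only [LinearMap.sum_apply, LinearMap.coe_lTensorHom, LinearMap.lTensor_comp,
      LinearMap.comp_apply, h1, map_zero, Finset.sum_const_zero]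
  · intro t
    choose z hz using fun i : Fin n => (theta_self_bijective A E).2
      (Tmap A E (LinearMap.proj i : (Fin n → A) →ₗ[A] A) t)
    refine ⟨∑ i, (LinearMap.single A (fun _ : Fin n => A) i).lTensor (E →ₗ[A] E) (z i), ?_⟩
    rw [map_sum]
    have h2 : (∑ i : Fin n, (LinearMap.single A (fun _ : Fin n => A) i) ∘ₗ
        (LinearMap.proj i : (Fin n → A) →ₗ[A] A)) = LinearMap.id := by
      ext i j
      simp [LinearMap.sum_apply, Pi.single_apply]
    have h4 : ∀ i, theta A E (Fin n → A)
        ((LinearMap.single A (fun _ : Fin n => A) i).lTensor (E →ₗ[A] E) (z i)) =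
        Tmap A E (LinearMap.single A (fun _ : Fin n => A) i)
          (Tmap A E (LinearMap.proj i : (Fin n → A) →ₗ[A] A) t) := by
      intro i
      rw [← hz i, ← LinearMap.comp_apply, ← theta_natural, LinearMap.comp_apply]
    simp only [h4]
    ext g
    simp only [LinearMap.sum_apply, Tmap_apply]
    rw [← map_sum]
    congr 1
    have : g = g ∘ₗ LinearMap.id := rfl
    conv_rhs => rw [this, ← h2]
    ext i
    simp [LinearMap.sum_apply]

/-- Exactness of a contravariant Hom into an injective module. -/
lemma exact_lcomp_of_injective [Module.Injective A E] {X Y Z : Type u} [AddCommGroup X] [Module A X]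
    [AddCommGroup Y] [Module A Y] [AddCommGroup Z] [Module A Z] (f : X →ₗ[A] Y) (g : Y →ₗ[A] Z)
    (h : Function.Exact f g) : Function.Exact (g.lcomp A E) (f.lcomp A E) := by
  intro φ
  constructor
  · intro hφ
    have hk : LinearMap.ker g ≤ LinearMap.ker φ := by
      intro x hx
      obtain ⟨y, rfl⟩ := (h x).1 hx
      exact LinearMap.congr_fun hφ y
    let j : (Y ⧸ LinearMap.ker g) →ₗ[A] Z := (LinearMap.ker g).liftQ g le_rfl
    have hj : Function.Injective j := by
      rw [← LinearMap.ker_eq_bot]
      exact Submodule.ker_liftQ_eq_bot _ _ _ le_rfl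
    obtain ⟨ψ, hψ⟩ := Module.Injective.extension_property A E (Y ⧸ LinearMap.ker g) Z j hj
      ((LinearMap.ker g).liftQ φ hk)
    refine ⟨ψ, ?_⟩
    apply LinearMap.ext
    intro y
    exact LinearMap.congr_fun hψ (Submodule.Quotient.mk y)
  · rintro ⟨ψ, rfl⟩
    apply LinearMap.ext
    intro y
    change ψ (g (f y)) = 0
    rw [(h _).2 ⟨y, rfl⟩, map_zero]

lemma lcomp_injective_of_surjective {Y Z : Type u} [AddCommGroup Y] [Module A Y]
    [AddCommGroup Z] [Module A Z] (g : Y →ₗ[A] Z)
    (h : Function.Surjective g) : Function.Injective (g.lcomp A E) := by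
  intro φ ψ hh
  apply LinearMap.ext
  intro x
  obtain ⟨y, rfl⟩ := h x
  exact LinearMap.congr_fun hh y

lemma lcomp_surjective_of_injective [Module.Injective A E] {X Y : Type u} [AddCommGroup X]
    [Module A X] [AddCommGroup Y] [Module A Y] (f : X →ₗ[A] Y) (h : Function.Injective f) :
    Function.Surjective (f.lcomp A E) := by
  intro φ
  exact Module.Injective.extension_property A E X Y f h φ

/-- `theta` is bijective for finite modules when `E` is injective. -/
theorem theta_bijective [IsNoetherianRing A] [Module.Injective A E] (X : Type u) [AddCommGroup X]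
    [Module A X] [Module.Finite A X] : Function.Bijective (theta A E X) := by
  obtain ⟨n, p, hp⟩ := Module.Finite.exists_fin' A X
  obtain ⟨m, q, hq⟩ := Module.Finite.exists_fin' A (LinearMap.ker p)
  let q' : (Fin m → A) →ₗ[A] (Fin n → A) := (LinearMap.ker p).subtype ∘ₗ q
  have hex : Function.Exact q' p := by
    intro x
    constructor
    · intro hx
      obtain ⟨y, hy⟩ := hq ⟨x, hx⟩
      exact ⟨y, by simp [q', hy]⟩
    · rintro ⟨y, rfl⟩
      exact (q y).2
  have hD : Function.Exact (p.lcomp A E) (q'.lcomp A E) := exact_lcomp_of_injective A E q' p hex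
  have hT : Function.Exact (Tmap A E q') (Tmap A E p) := exact_lcomp_of_injective A E _ _ hD
  have hTs : Function.Surjective (Tmap A E p) :=
    lcomp_surjective_of_injective A E _ (lcomp_injective_of_surjective A E p hp)
  exact LinearMap.bijective_of_surjective_of_bijective_of_right_exact
    (q'.lTensor (E →ₗ[A] E)) (p.lTensor (E →ₗ[A] E)) (Tmap A E q') (Tmap A E p)
    (theta A E (Fin m → A)) (theta A E (Fin n → A)) (theta A E X)
    (theta_natural A E q') (theta_natural A E p) (lTensor_exact _ hex hp) hT
    (theta_pi_bijective A E m).2 (theta_pi_bijective A E n) (LinearMap.lTensor_surjective _ hp) hTs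

end

section completion

variable (A : Type u) [CommRing A] [IsLocalRing A] [IsNoetherianRing A]
  (E : Type u) [AddCommGroup E] [Module A E]
  (f : IsLocalRing.ResidueField A →ₗ[A] E) (hf : InjHull.IsInjectiveHull f)

include hf in
/-- the bidual is the completion. -/
theorem nonempty_completion_equiv (X : Type u) [AddCommGroup X] [Module A X] [Module.Finite A X] :
    Nonempty (AdicCompletion (IsLocalRing.maximalIdeal A) X ≃ₗ[A] ((X →ₗ[A] E) →ₗ[A] E)) := by
  have : Module.Injective A E := hf.isInjective
  let e1 : (E →ₗ[A] E) ≃ₗ[A] AdicCompletion (IsLocalRing.maximalIdeal A) A :=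
    (Groth.Agent.Localalg.Matlis.endEquivAdicCompletion hf).toLinearEquiv
  let e2 : (E →ₗ[A] E) ⊗[A] X ≃ₗ[A] AdicCompletion (IsLocalRing.maximalIdeal A) A ⊗[A] X :=
    LinearEquiv.rTensor X e1
  let e3 : AdicCompletion (IsLocalRing.maximalIdeal A) A ⊗[A] X ≃ₗ[A]
      AdicCompletion (IsLocalRing.maximalIdeal A) X :=
    (AdicCompletion.ofTensorProductEquivOfFiniteNoetherian (IsLocalRing.maximalIdeal A) X).restrictScalars A
  exact ⟨(e2.trans e3).symm.trans (LinearEquiv.ofBijective _ (theta_bijective A E X))⟩

include hf in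
/-- the bidual is the completion, in any universe. -/
theorem nonempty_completion_equiv' (X : Type w) [AddCommGroup X] [Module A X] [Module.Finite A X] :
    Nonempty (AdicCompletion (IsLocalRing.maximalIdeal A) X ≃ₗ[A] ((X →ₗ[A] E) →ₗ[A] E)) := by
  obtain ⟨n, p, hp⟩ := Module.Finite.exists_fin' A X
  let e : ((Fin n → A) ⧸ LinearMap.ker p) ≃ₗ[A] X := p.quotKerEquivOfSurjective hp
  obtain ⟨g⟩ := nonempty_completion_equiv A E f hf ((Fin n → A) ⧸ LinearMap.ker p)
  exact ⟨((AdicCompletion.congr _ e).restrictScalars A).symm.trans (g.trans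
    (LinearEquiv.congrLeft E A (LinearEquiv.congrLeft E A e)))⟩

end completion

end K174.BidualE
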