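import Groth.Agent.Flat2F.GorFibB
import Groth.Agent.LoccohA.DzKappa
import Groth.Agent.DRing.K228.Basic
import Groth.Agent.S1775
import Groth.Agent.Flat2B.FlatDim
import Groth.Agent.Flat2A.DimSmooth
import Groth.Agent.S2141
import Groth.Agent.Ega4B.FibLoc
import Groth.Agent.S0342
import Groth.Agent.VarietyA.RegSmooth

/-!
# Degree of a dualizing complex at a prime under base change with Gorenstein fibre
-/

set_option autoImplicit false
universe v u
open CategoryTheory Limits DerivedCategory
open scoped TensorProduct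
attribute [local instance] HasDerivedCategory.standard

namespace K174.CodimSm

open Groth.Agent.LoccohB.FlatLBC Groth.Agent.LoccohB.HomBC Groth.Agent.Flat2F.GorFibA
  Groth.Agent.LoccohB.Devissage Groth.Agent.LoccohB.DBase

/-- `RHom_D(F, K ⊗ D) = F[-d]`. -/
theorem nonempty_RC_iso {C D : Type u} [CommRing C] [CommRing D] [Algebra C D]
    [IsNoetherianRing C] [IsNoetherianRing D] (h : (algebraMap C D).Flat) (p : Ideal C)
    (K : Dual.D C) (a : ℤ) [K.IsGE a] (d : ℤ)
    (h0 : ∀ i, i ≠ d → Subsingleton (Dual.inD C (C ⧸ p) ⟶ K⟦i⟧))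
    (h1 : Nonempty ((Dual.inD C (C ⧸ p) ⟶ K⟦d⟧) ≃ₗ[C] (C ⧸ p))) :
    Nonempty (RC (D ⧸ p.map (algebraMap C D)) ((flatBC (algebraMap C D) h).obj K) ≅
      sg (D ⧸ p.map (algebraMap C D)) d (D ⧸ p.map (algebraMap C D))) := by
  set F := D ⧸ p.map (algebraMap C D) with hF
  have e : ∀ j : ℤ, Nonempty ((D ⊗[C] (Dual.inD C (C ⧸ p) ⟶ K⟦j⟧)) ≃ₗ[D]
      (Dual.inD D F ⟶ ((flatBC (algebraMap C D) h).obj K)⟦j⟧)) := by
    intro j
    refine ⟨homBCModuleEquiv D h (ModuleCat.of C (C ⧸ p)) K a j ≪≫ₗ
      Linear.homCongr D ((singleFunctor (ModuleCat.{u} D) 0).mapIso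
        (Groth.Agent.LoccohB.FlatDual.extQuot p)) (Iso.refl _)⟩
  have hs : Function.Surjective (algebraMap D F) := Ideal.Quotient.mk_surjective
  have hne : ∀ j, j ≠ d → Subsingleton (Dual.HD F (RC F ((flatBC (algebraMap C D) h).obj K)) j) := by
    intro j hj
    have := h0 j hj
    obtain ⟨e1⟩ := e j
    have h2 : Subsingleton (D ⊗[C] (Dual.inD C (C ⧸ p) ⟶ K⟦j⟧)) := inferInstance
    have h3 : Subsingleton (Dual.inD D F ⟶ ((flatBC (algebraMap C D) h).obj K)⟦j⟧) :=
      e1.symm.toEquiv.subsingleton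
    obtain ⟨e2⟩ := nonempty_HD_RC (C := D) (F := F) hs ((flatBC (algebraMap C D) h).obj K) j PUnit
      { toFun := fun _ => 0, map_add' := fun _ _ => rfl, map_smul' := fun _ _ => rfl,
        invFun := fun _ => 0, left_inv := fun _ => Subsingleton.elim _ _,
        right_inv := fun _ => rfl }
    exact e2.toEquiv.subsingleton
  have hd : Nonempty (Dual.HD F (RC F ((flatBC (algebraMap C D) h).obj K)) d ≃ₗ[F] F) := by
    obtain ⟨e1⟩ := e d
    obtain ⟨g⟩ := h1
    refine nonempty_HD_RC (C := D) (F := F) hs _ d F (e1.symm ≪≫ₗ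
      LinearEquiv.baseChange C D _ _ g ≪≫ₗ ?_)
    exact (Algebra.TensorProduct.quotIdealMapEquivTensorQuot D p).symm.toLinearEquiv
  have hge : (RC F ((flatBC (algebraMap C D) h).obj K)).IsGE d :=
    K228.Basic.isGE_of_subsingleton _ _ fun i hi => hne i (by omega)
  have hle : (RC F ((flatBC (algebraMap C D) h).obj K)).IsLE d :=
    K228.Basic.isLE_of_subsingleton _ _ fun i hi => hne i (by omega)
  obtain ⟨e1⟩ := nonempty_iso_single (RC F ((flatBC (algebraMap C D) h).obj K)) d
  obtain ⟨g⟩ := hd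
  exact ⟨e1 ≪≫ (singleFunctor (ModuleCat.{u} F) d).mapIso (LinearEquiv.toModuleIso g)⟩

/-- the class of the residue field in degree `d + e`. -/
theorem nontrivial_core {C D : Type u} [CommRing C] [CommRing D] [Algebra C D]
    [IsNoetherianRing C] [IsNoetherianRing D] (h : (algebraMap C D).Flat) (p : Ideal C)
    (K : Dual.D C) (a : ℤ) [K.IsGE a] (d : ℤ)
    (h0 : ∀ i, i ≠ d → Subsingleton (Dual.inD C (C ⧸ p) ⟶ K⟦i⟧))
    (h1 : Nonempty ((Dual.inD C (C ⧸ p) ⟶ K⟦d⟧) ≃ₗ[C] (C ⧸ p)))
    [hG : LocCoh.IsGorensteinLocalRing (D ⧸ p.map (algebraMap C D))] (e : ℕ)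
    (he : ringKrullDim (D ⧸ p.map (algebraMap C D)) = e) :
    Nontrivial (Dual.inD D (IsLocalRing.ResidueField (D ⧸ p.map (algebraMap C D))) ⟶
      ((flatBC (algebraMap C D) h).obj K)⟦d + (e : ℤ)⟧) := by
  obtain ⟨ε⟩ := nonempty_RC_iso h p K a d h0 h1
  set F := D ⧸ p.map (algebraMap C D) with hF
  let κ := IsLocalRing.ResidueField F
  obtain ⟨g⟩ := (Groth.Agent.Localalg.GorExt.ext_residueField e F he).2
  have h2 : Nontrivial (Dual.inD F κ ⟶ (Dual.inD F F)⟦(e : ℤ)⟧) := by
    rw [← not_subsingleton_iff_nontrivial, Groth.Agent.Localalg.DGor.subsingleton_hom_iff,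
      not_subsingleton_iff_nontrivial]
    exact g.symm.toEquiv.nontrivial
  let ε2 : (RC F ((flatBC (algebraMap C D) h).obj K))⟦d + (e : ℤ)⟧ ≅ (Dual.inD F F)⟦(e : ℤ)⟧ :=
    (shiftFunctorAdd' (Dual.D F) d (e : ℤ) _ rfl).app _ ≪≫
      (shiftFunctor (Dual.D F) (e : ℤ)).mapIso ((shiftFunctor (Dual.D F) d).mapIso ε ≪≫
        ((singleFunctors (ModuleCat.{u} F)).shiftIso d 0 d (by omega)).app (ModuleCat.of F F))
  have h3 : Nontrivial (Dual.inD F κ ⟶ (RC F ((flatBC (algebraMap C D) h).obj K))⟦d + (e : ℤ)⟧) :=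
    ((Iso.refl _).homCongr ε2).nontrivial
  exact (adjEquiv (F := F) κ _ (d + (e : ℤ))).nontrivial

section Dim

open Groth.Agent.Flat2B.FlatDim Groth.Agent.CycB.TrdegAlg

/-- transcendence degree of the residue field of a prime of the fibre. -/
theorem trdeg_fibre {A B : Type u} [CommRing A] [CommRing B] [Algebra A B] (p : Ideal A)
    [p.IsPrime] (q : Ideal B) [q.IsPrime] [q.LiesOver p] (q' : Ideal (p.Fiber B)) [q'.IsPrime]
    (h : q'.comap (Algebra.TensorProduct.includeRight : B →ₐ[A] p.Fiber B) = q) :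
    trd ((algebraMap (p.Fiber B) q'.ResidueField).comp (algebraMap p.ResidueField (p.Fiber B))) =
      rtd p q := by
  let _ : Algebra B (p.Fiber B) := Algebra.TensorProduct.rightAlgebra
  have hl : q'.LiesOver q := ⟨h.symm⟩
  have h1 : (resMap q q').comp (resMap p q) =
      (algebraMap (p.Fiber B) q'.ResidueField).comp (algebraMap p.ResidueField (p.Fiber B)) := by
    apply Ideal.ResidueField.ringHom_ext
    ext a
    simp only [RingHom.comp_apply, resMap_algebraMap]
    congr 1
    exact (Algebra.TensorProduct.includeRight : B →ₐ[A] p.Fiber B).commutes a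
  have h2 : Function.Surjective (resMap q q') := by
    have h3 : ∀ s : p.Fiber B, algebraMap (p.Fiber B) q'.ResidueField s ∈ (resMap q q').range := by
      intro s
      induction s using TensorProduct.induction_on with
      | zero => simp
      | tmul x y =>
        have hx : (x ⊗ₜ[A] y : p.Fiber B) = algebraMap p.ResidueField (p.Fiber B) x *
            algebraMap B (p.Fiber B) y := by
          change x ⊗ₜ[A] y = (x ⊗ₜ[A] (1 : B)) * ((1 : p.ResidueField) ⊗ₜ[A] y)
          rw [Algebra.TensorProduct.tmul_mul_tmul, mul_one, one_mul]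
        rw [hx, map_mul]
        refine Subring.mul_mem _ ?_ ?_
        · exact ⟨resMap p q x, RingHom.congr_fun h1 x⟩
        · exact ⟨algebraMap B q.ResidueField y, resMap_algebraMap q q' y⟩
      | add x y hx hy =>
        rw [map_add]
        exact Subring.add_mem _ hx hy
    intro z
    obtain ⟨a, b, hb, hab⟩ := fracGen_algebraMap q' z
    obtain ⟨a', ha'⟩ := h3 a
    obtain ⟨b', hb'⟩ := h3 b
    refine ⟨a' / b', ?_⟩
    rw [map_div₀, ha', hb', ← hab, mul_div_cancel_right₀ _ hb]
  rw [← h1, trd_comp, trd_eq_zero_of_surjective _ (resMap q q').injective h2, add_zero]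
  rfl

/-- dimension of the local ring of the fibre of a smooth algebra. -/
theorem exists_dim {A B : Type u} [CommRing A] [CommRing B] [Algebra A B] (n : ℕ)
    (hs : FlatCA.SmoothRelDim n A B) (q : Ideal B) [q.IsPrime] (t : ℕ)
    (ht : rtd (q.comap (algebraMap A B)) q = (t : Cardinal.{u})) :
    LocCoh.IsGorensteinLocalRing (EGA4.FibLocRing A B q) ∧
      ∃ e : ℕ, ringKrullDim (EGA4.FibLocRing A B q) = e ∧ e + t = n := by
  obtain ⟨q', hq', hcomap, ⟨ε⟩⟩ := Groth.Agent.Ega4B.FibLoc.exists_fibLocRing_equiv A B q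
  set p := q.comap (algebraMap A B) with hp
  have hover : q.LiesOver p := ⟨rfl⟩
  have htr := trdeg_fibre p q q' hcomap
  rw [ht] at htr
  have h1 := Groth.Agent.Flat2A.DimSmooth.localDim_fiber n hs p ⟨q', hq'⟩
  have hsm : FlatCA.SmoothRelDim n p.ResidueField (p.Fiber B) :=
    Groth.Agent.Flat2A.DimSmooth.smooth_fiber n hs p
  have hsmooth : Algebra.Smooth p.ResidueField (p.Fiber B) :=
    Groth.Agent.Flat2A.DimSmooth.smooth_of_smoothRelDim n hsm
  have h2 := Groth.Agent.S2141.result (k := p.ResidueField) q' t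
    ((@trd_algebraMap p.ResidueField q'.ResidueField _ _
      (IsLocalRing.ResidueField.algebra (Localization.AtPrime q'))).symm.trans htr)
  rw [h2] at h1
  rw [ringKrullDim_eq_of_ringEquiv ε] at h1
  constructor
  · have : IsRegularLocalRing (Localization.AtPrime q') :=
      Groth.Agent.VarietyA.RegSmooth.isRegularLocalRing_of_isSmoothAt (R := p.ResidueField) q'
    exact Groth.Agent.LoccohB.GorBasic.isGorensteinLocalRing_of_ringEquiv ε
      (Groth.Agent.S0342.result (Localization.AtPrime q'))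
  · have h3 : ringKrullDim (EGA4.FibLocRing A B q) ≠ ⊥ := by
      intro h
      rw [h] at h1
      simp at h1
    obtain ⟨x, hx⟩ := WithBot.ne_bot_iff_exists.1 h3
    rw [← hx] at h1 ⊢
    have h4 : x + (t : ℕ∞) = (n : ℕ∞) := by exact_mod_cast h1
    obtain ⟨e, rfl⟩ := ENat.ne_top_iff_exists.1 (show x ≠ ⊤ by
      rintro rfl
      simp at h4)
    exact ⟨e, rfl, by exact_mod_cast h4⟩

end Dim

section Main

open Groth.Agent.Flat2B.FlatDim Groth.Agent.CycB.TrdegAlg IsLocalRing

theorem main {A B : Type u} [CommRing A] [CommRing B] [Algebra A B] [IsNoetherianRing A] (n : ℕ)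
    (hs : FlatCA.SmoothRelDim n A B) (ω : Dual.D A) (hω : Dual.IsDualizing A ω) (p : Ideal A)
    [p.IsPrime] (q : Ideal B) [q.IsPrime] [hq : q.LiesOver p]
    [DRing.HasLBaseChange (algebraMap A (Localization.AtPrime p))]
    [DRing.HasLBaseChange (algebraMap A (Localization.AtPrime q))] (d : ℤ)
    (hd : Nontrivial (Dual.inD (Localization.AtPrime p) p.ResidueField ⟶
      ((DRing.LBaseChange (algebraMap A (Localization.AtPrime p))).obj ω)⟦d⟧)) (t : ℕ)
    (ht : rtd p q = (t : Cardinal.{u})) :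
    Nontrivial (Dual.inD (Localization.AtPrime q) q.ResidueField ⟶
      ((DRing.LBaseChange (algebraMap A (Localization.AtPrime q))).obj ω)⟦(d - (t : ℤ) + (n : ℤ))⟧) := by
  obtain rfl : p = q.comap (algebraMap A B) := hq.over
  obtain ⟨hG, e, he, het⟩ := exists_dim n hs q t ht
  set p := q.comap (algebraMap A B) with hp
  let C := Localization.AtPrime p
  let D := Localization.AtPrime q
  let _ : Algebra C D := (Localization.localRingHom p q (algebraMap A B) rfl).toAlgebra
  have hscal : IsScalarTower A C D := IsScalarTower.of_algebraMap_eq fun x => by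
    rw [RingHom.algebraMap_toAlgebra, Localization.localRingHom_to_map]
    rfl
  have hsm : Algebra.Smooth A B := Groth.Agent.Flat2A.DimSmooth.smooth_of_smoothRelDim n hs
  have hNB : IsNoetherianRing B := Algebra.FiniteType.isNoetherianRing A B
  have hND : IsNoetherianRing D := IsLocalization.isNoetherianRing q.primeCompl D hNB
  have hNC : IsNoetherianRing C := IsLocalization.isNoetherianRing p.primeCompl C inferInstance
  have hfB : Module.Flat A B := inferInstance
  have hfAD : Module.Flat A D := Module.Flat.trans A B D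
  have hfAC : Module.Flat A C := inferInstance
  have hfCD : Module.Flat C D := (Module.flat_iff_of_isLocalization C p.primeCompl D).2 hfAD
  have hAC : (algebraMap A C).Flat := RingHom.flat_algebraMap_iff.2 hfAC
  have hAD : (algebraMap A D).Flat := RingHom.flat_algebraMap_iff.2 hfAD
  have hCD : (algebraMap C D).Flat := RingHom.flat_algebraMap_iff.2 hfCD
  -- the dualizing complex of `C`
  have hωC : Dual.IsDualizing C ((DRing.LBaseChange (algebraMap A C)).obj ω) :=
    Groth.Agent.S1775.result A p.primeCompl ω hω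
  set ωC := (DRing.LBaseChange (algebraMap A C)).obj ω with hωC'
  obtain ⟨d', h0, h1⟩ := Groth.Agent.LoccohA.DzKappa.ext_residueField hωC (maximalIdeal C)
  have hdd' : d = d' := by
    by_contra hne
    have := h0 d hne
    exact (not_subsingleton_iff_nontrivial.2 hd) this
  subst hdd'
  obtain ⟨a, b, hge, hle, -⟩ := exists_bounds_of_isDualizing hωC
  have hmax : (maximalIdeal C).map (algebraMap C D) = p.map (algebraMap A D) := by
    rw [← Localization.AtPrime.map_eq_maximalIdeal, Ideal.map_map, ← IsScalarTower.algebraMap_eq]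
  let F := D ⧸ (maximalIdeal C).map (algebraMap C D)
  let eF : EGA4.FibLocRing A B q ≃+* F := Ideal.quotEquivOfEq hmax.symm
  have hGF : LocCoh.IsGorensteinLocalRing F :=
    Groth.Agent.LoccohB.GorBasic.isGorensteinLocalRing_of_ringEquiv eF hG
  have heF : ringKrullDim F = e := by rw [← ringKrullDim_eq_of_ringEquiv eF, he]
  have h2 := nontrivial_core hCD (maximalIdeal C) ωC a d h0 h1 e heF
  -- compare the modules
  have hsurj : Function.Surjective (algebraMap D (IsLocalRing.ResidueField F)) := by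
    rw [IsScalarTower.algebraMap_eq D F (IsLocalRing.ResidueField F)]
    exact IsLocalRing.residue_surjective.comp Ideal.Quotient.mk_surjective
  have hker : RingHom.ker (algebraMap D (IsLocalRing.ResidueField F)) = maximalIdeal D :=
    IsLocalRing.eq_maximalIdeal (RingHom.ker_isMaximal_of_surjective _ hsurj)
  have hsurj' : Function.Surjective (Algebra.linearMap D (IsLocalRing.ResidueField F)) := hsurj
  let e1 : (D ⧸ maximalIdeal D) ≃ₗ[D] IsLocalRing.ResidueField F :=
    (Submodule.quotEquivOfEq _ _ (by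
      ext x
      rw [← hker]
      exact Iff.rfl)) ≪≫ₗ
      (LinearMap.quotKerEquivOfSurjective (Algebra.linearMap D (IsLocalRing.ResidueField F)) hsurj')
  let ε1 : Dual.inD D q.ResidueField ≅ Dual.inD D (IsLocalRing.ResidueField F) :=
    (singleFunctor (ModuleCat.{u} D) 0).mapIso e1.toModuleIso
  let ε2 : (DRing.LBaseChange (algebraMap A D)).obj ω ≅
      (flatBC (algebraMap C D) hCD).obj ωC :=
    (LBaseChangeIso (algebraMap A D) hAD).app ω ≪≫
      ((Groth.Agent.Flat2F.GorFibB.flatBCComp hAC hCD hAD).app ω).symm ≪≫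
      (flatBC (algebraMap C D) hCD).mapIso ((LBaseChangeIso (algebraMap A C) hAC).app ω).symm
  have hdeg : d + (e : ℤ) = d - (t : ℤ) + (n : ℤ) := by omega
  rw [← hdeg]
  exact (ε1.homCongr ((shiftFunctor (Dual.D D) _).mapIso ε2)).nontrivial

end Main

end K174.CodimSm
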