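import Groth.Agent.PerfC.RelPerfPt
import Groth.Agent.PerfC.PullKFlat
import Groth.Agent.PerfC.LpullRestrict

/-!
# Cohomology of pseudo-coherent complexes and of their restrictions to the fibres

`f : X ⟶ S` flat and locally of finite presentation, `E ∈ D(O_X)` pseudo-coherent.
* `isZero_HD_of_fibre`: if `H^i(Lι_s^* E) = 0` for all points `s` (`ι_s : X_s ⟶ X` the fibre), then `H^i(E) = 0`;
* `isFlatOver_HD_of_fibre`: if `H^{i-1}(Lι_s^* E) = 0 = H^{i+1}(Lι_s^* E)` for all `s`, then `H^i(E)` is flat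
  over `S`.
-/

set_option autoImplicit false
set_option linter.style.haveILetI false
universe u
open CategoryTheory CategoryTheory.Limits AlgebraicGeometry
attribute [local instance] HasDerivedCategory.standard

namespace K174.FibVan

open Groth.Agent Groth.Agent.PerfC Groth.Agent.PerfC.RelFlatLpull Groth.Agent.Dcoh.LocalD
  Groth.Agent.CycB.StalkExact Groth.Agent.PerfC.RelPerfPt Groth.Agent.Fdesc.PullbackStalk

section Algebra

variable {R : Type u} [CommRing R]

theorem flat_range {M N K : Type u} [AddCommGroup M] [AddCommGroup N] [AddCommGroup K]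
    [Module R M] [Module R N] [Module R K] (a : M →ₗ[R] N) (b : N →ₗ[R] K)
    (h1 : Function.Exact a b) (h2 : Function.Surjective b) [Module.Flat R N] [Module.Flat R K] :
    Module.Flat R (LinearMap.range a) := by
  refine Divis.FlatExt.flat_of_exact_left (f := (LinearMap.range a).subtype) (g := b)
    (Submodule.injective_subtype _) ?_ h2
  intro z
  rw [h1 z]
  constructor
  · rintro ⟨w, rfl⟩
    exact ⟨⟨a w, ⟨w, rfl⟩⟩, rfl⟩
  · rintro ⟨⟨_, ⟨w, rfl⟩⟩, rfl⟩
    exact ⟨w, rfl⟩

/-- `0 → M₀ → M₁ → M₂ → M₃ → 0` and `0 → M₃ → M₄ → M₅ → 0` exact, `M₁, M₂, M₄, M₅` flat: `M₀` is flat. -/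
theorem flat_of_exact {M₀ M₁ M₂ M₃ M₄ M₅ : Type u} [AddCommGroup M₀] [AddCommGroup M₁]
    [AddCommGroup M₂] [AddCommGroup M₃] [AddCommGroup M₄] [AddCommGroup M₅] [Module R M₀]
    [Module R M₁] [Module R M₂] [Module R M₃] [Module R M₄] [Module R M₅]
    (a : M₀ →ₗ[R] M₁) (b : M₁ →ₗ[R] M₂) (c : M₂ →ₗ[R] M₃) (d : M₃ →ₗ[R] M₄) (e : M₄ →ₗ[R] M₅)
    (ha : Function.Injective a) (hab : Function.Exact a b) (hbc : Function.Exact b c)
    (hc : Function.Surjective c) (hd : Function.Injective d) (hde : Function.Exact d e)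
    (he : Function.Surjective e) [Module.Flat R M₁] [Module.Flat R M₂] [Module.Flat R M₄]
    [Module.Flat R M₅] : Module.Flat R M₀ := by
  have h3 : Module.Flat R M₃ := Divis.FlatExt.flat_of_exact_left (f := d) (g := e) hd hde he
  have h2 : Module.Flat R (LinearMap.range b) := flat_range b c hbc hc
  refine Divis.FlatExt.flat_of_exact_left (f := a) (g := b.rangeRestrict) ha ?_
    b.surjective_rangeRestrict
  intro z
  rw [← hab z]
  exact ⟨fun h => congrArg Subtype.val h, fun h => Subtype.ext h⟩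

end Algebra

section Strict

variable {V W S : Scheme.{u}} {f : V ⟶ S} {s : S} {g : W ⟶ V} {q : W ⟶ Spec (S.residueField s)}

/-- The strictly perfect case. -/
theorem strict_case [Flat f] [LocallyOfFinitePresentation f]
    (H : IsPullback g q f (S.fromSpecResidueField s)) (y : W) (P : CochainComplex V.Modules ℤ)
    (hP : ∀ i, FlatMod.IsFinLocFree (P.X i)) (i j : ℤ) (hij : i + 1 = j)
    (hex : (((Scheme.Modules.pullback g).mapHomologicalComplex (ComplexShape.up ℤ)).obj P).ExactAt i) :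
    Function.Injective (stalkLin (P.fromOpcycles i j) (g y)) ∧
      FlatMod.IsFlatOverAt f (P.opcycles j) (g y) := by
  subst hij
  have hflat : ∀ i, FlatMod.IsFlat (P.X i) := fun i => Dcoh.Spread.isFlat_of_isFinLocFree (hP i)
  have hmono := mono_map_fromOpcycles (Scheme.Modules.pullback g) P i hex
  obtain ⟨e⟩ := cokernel_fromOpcycles_iso P i (i + 1) rfl
  have key := FibInj.injective_and_flat H y (isFP_opcycles P hP i)
      (Desc.FinLocFreeSections.isFP_of_isFinLocFree (hP (i + 1))) (P.fromOpcycles i (i + 1))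
      (RelFlat.isFlatOver_of_isFlat f (hflat _) _) (stalkLin_injective _ y)
  exact ⟨key.1, RelFlat.isFlatOverAt_of_iso f e (g y) key.2⟩

theorem stalk_homology_exact (P : CochainComplex V.Modules ℤ) (i j : ℤ) (hij : i + 1 = j) (x : V) :
    Function.Injective (stalkLin (P.homologyι i) x) ∧
      Function.Exact (stalkLin (P.homologyι i) x) (stalkLin (P.fromOpcycles i j) x) := by
  refine ⟨stalkLin_injective _ x, ?_⟩
  exact stalkLin_exact (ShortComplex.mk _ _ (P.homologyι_comp_fromOpcycles i j))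
    (ShortComplex.exact_of_f_is_kernel _ (P.homologyIsKernel i j (by simp [← hij]))) x

theorem stalk_opcycles_exact (P : CochainComplex V.Modules ℤ) (i j : ℤ) (hij : i + 1 = j) (x : V) :
    Function.Exact (stalkLin (P.fromOpcycles i j) x) (stalkLin (P.pOpcycles j) x) ∧
      Function.Surjective (stalkLin (P.pOpcycles j) x) := by
  refine ⟨?_, stalkLin_surjective _ x⟩
  have h := Dcoh.BddCx.exact_opcycles P i j hij
  exact stalkLin_exact _ h x

theorem subsingleton_stalk_homology [Flat f] [LocallyOfFinitePresentation f]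
    (H : IsPullback g q f (S.fromSpecResidueField s)) (y : W) (P : CochainComplex V.Modules ℤ)
    (hP : ∀ i, FlatMod.IsFinLocFree (P.X i)) (i : ℤ)
    (hex : (((Scheme.Modules.pullback g).mapHomologicalComplex (ComplexShape.up ℤ)).obj P).ExactAt i) :
    Subsingleton ((P.homology i).presheaf.stalk (g y)) := by
  obtain ⟨h1, -⟩ := strict_case H y P hP i (i + 1) rfl hex
  obtain ⟨h2, h3⟩ := stalk_homology_exact P i (i + 1) rfl (g y)
  refine ⟨fun a b => h2 (h1 ?_)⟩
  rw [h3.apply_apply_eq_zero, h3.apply_apply_eq_zero]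

theorem isFlatOverAt_homology [Flat f] [LocallyOfFinitePresentation f]
    (H : IsPullback g q f (S.fromSpecResidueField s)) (y : W) (P : CochainComplex V.Modules ℤ)
    (hP : ∀ i, FlatMod.IsFinLocFree (P.X i)) (h i j k : ℤ) (hhi : h + 1 = i) (hij : i + 1 = j)
    (hjk : j + 1 = k)
    (hex : (((Scheme.Modules.pullback g).mapHomologicalComplex (ComplexShape.up ℤ)).obj P).ExactAt h)
    (hex' : (((Scheme.Modules.pullback g).mapHomologicalComplex (ComplexShape.up ℤ)).obj P).ExactAt j) :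
    FlatMod.IsFlatOverAt f (P.homology i) (g y) := by
  have hflat : ∀ i, FlatMod.IsFlat (P.X i) := fun i => Dcoh.Spread.isFlat_of_isFinLocFree (hP i)
  obtain ⟨-, h1⟩ := strict_case H y P hP h i hhi hex
  obtain ⟨h2, h3⟩ := strict_case H y P hP j k hjk hex'
  obtain ⟨h4, h5⟩ := stalk_homology_exact P i j hij (g y)
  obtain ⟨h6, h7⟩ := stalk_opcycles_exact P i j hij (g y)
  obtain ⟨h8, h9⟩ := stalk_opcycles_exact P j k hjk (g y)
  have h10 := RelFlat.isFlatOver_of_isFlat f (hflat j) (g y)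
  have h11 := RelFlat.isFlatOver_of_isFlat f (hflat k) (g y)
  let x := g y
  letI := stalkAlg f x
  letI := FlatMod.moduleStalkOver f (P.homology i) x
  haveI := isScalarTower f (P.homology i) x
  letI := FlatMod.moduleStalkOver f (P.opcycles i) x
  haveI := isScalarTower f (P.opcycles i) x
  letI := FlatMod.moduleStalkOver f (P.X j) x
  haveI := isScalarTower f (P.X j) x
  letI := FlatMod.moduleStalkOver f (P.opcycles j) x
  haveI := isScalarTower f (P.opcycles j) x
  letI := FlatMod.moduleStalkOver f (P.X k) x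
  haveI := isScalarTower f (P.X k) x
  letI := FlatMod.moduleStalkOver f (P.opcycles k) x
  haveI := isScalarTower f (P.opcycles k) x
  haveI : Module.Flat (S.presheaf.stalk (f.base x)) ((P.opcycles i).presheaf.stalk x) := h1
  haveI : Module.Flat (S.presheaf.stalk (f.base x)) ((P.X j).presheaf.stalk x) := h10
  haveI : Module.Flat (S.presheaf.stalk (f.base x)) ((P.X k).presheaf.stalk x) := h11
  haveI : Module.Flat (S.presheaf.stalk (f.base x)) ((P.opcycles k).presheaf.stalk x) := h3
  exact flat_of_exact ((stalkLin (P.homologyι i) x).restrictScalars (S.presheaf.stalk (f.base x)))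
    ((stalkLin (P.fromOpcycles i j) x).restrictScalars (S.presheaf.stalk (f.base x)))
    ((stalkLin (P.pOpcycles j) x).restrictScalars (S.presheaf.stalk (f.base x)))
    ((stalkLin (P.fromOpcycles j k) x).restrictScalars (S.presheaf.stalk (f.base x)))
    ((stalkLin (P.pOpcycles k) x).restrictScalars (S.presheaf.stalk (f.base x)))
    h4 h5 h6 h7 h2 h8 h9

end Strict

section Global

/-- `H^i(K|_U) ≅ H^i(K)|_U`. -/
noncomputable def hdRestrict {U X : Scheme.{u}} (j : U ⟶ X) [IsOpenImmersion j] (K : DCoh.D X) (i : ℤ) :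
    DCoh.HD ((DCoh.restrictD j).obj K) i ≅ (DCoh.HD K i).restrict j :=
  Dcoh.MapDer.homologyMapDerApp (Scheme.Modules.restrictFunctor j) i K

variable {X S : Scheme.{u}} (f : X ⟶ S)

/-- Near a point of a fibre: a strictly perfect approximation and its restriction to the fibre. -/
theorem exists_local (E : DCoh.D X) (n : ℤ) (hE : DCoh.IsPseudoCoherentD n E) (s : S)
    [DCoh.HasLpull (f.fiberι s)] (y : f.fiber s) :
    ∃ (V : X.Opens) (W : Scheme.{u}) (g : W ⟶ (V : Scheme.{u})) (q : W ⟶ Spec (S.residueField s))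
      (_ : IsPullback g q (V.ι ≫ f) (S.fromSpecResidueField s)) (w : W)
      (P : CochainComplex (V : Scheme.{u}).Modules ℤ), V.ι (g w) = f.fiberι s y ∧
      (∀ i, FlatMod.IsFinLocFree (P.X i)) ∧
      (∀ i, n < i → Nonempty (P.homology i ≅ (DCoh.HD E i).restrict V.ι)) ∧
      (∀ i, n < i → IsZero (DCoh.HD ((DCoh.Lpull (f.fiberι s)).obj E) i) →
        (((Scheme.Modules.pullback g).mapHomologicalComplex (ComplexShape.up ℤ)).obj P).ExactAt i) := by
  obtain ⟨V, hxV, P, α, ⟨⟨a, b, hab⟩, hP⟩, hα1, hα2⟩ :=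
    (isPseudoCoherentD_iff_locally n E).mp hE (f.fiberι s y)
  let g := f.fiberι s ∣_ V
  have sq : IsPullback g (((f.fiberι s) ⁻¹ᵁ V).ι ≫ f.fiberToSpecResidueField s) (V.ι ≫ f)
      (S.fromSpecResidueField s) :=
    ((isPullback_morphismRestrict (f.fiberι s) V).flip.paste_horiz (IsPullback.of_hasPullback _ _).flip).flip
  have : DCoh.HasLpull g := PullKFlat.hasLpull g
  have hA := PullKFlat.pullData g
  have hy' : y ∈ (f.fiberι s) ⁻¹ᵁ V := hxV
  obtain ⟨e⟩ := LpullRestrict.nonempty_restrict_lpull (g := f.fiberι s) (g' := g) V.ι ((f.fiberι s) ⁻¹ᵁ V).ι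
    (morphismRestrict_ι _ V) E
  obtain ⟨C, β, γ, hT⟩ := Pretriangulated.distinguished_cocone_triangle α
  have hC : C.IsLE (n - 1) := by
    rw [DerivedCategory.isLE_iff]
    intro i hi
    refine Dcoh.BddCx.isZero_homology_obj₃ _ hT i (i + 1) rfl ?_ ?_
    · by_cases h : i = n
      · subst h; exact hα2
      · have := hα1 i (by omega)
        exact (inferInstance : Epi ((DerivedCategory.homologyFunctor _ i).map α))
    · have := hα1 (i + 1) (by omega)
      exact (inferInstance : Mono ((DerivedCategory.homologyFunctor _ (i + 1)).map α))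
  have hflat : ∀ i, FlatMod.IsFlat (P.X i) := fun i => Dcoh.Spread.isFlat_of_isFinLocFree (hP i)
  refine ⟨V, _, g, _, sq, ⟨y, hy'⟩, P, ?_, hP, fun i hi => ?_, fun i hi hz => ?_⟩
  · exact congr($(morphismRestrict_ι (f.fiberι s) V) ⟨y, hy'⟩)
  · have := hα1 i hi
    exact ⟨((DerivedCategory.homologyFunctorFactors _ i).app P).symm ≪≫
      asIso ((DerivedCategory.homologyFunctor _ i).map α) ≪≫ hdRestrict V.ι E i⟩
  · have h0 : IsZero (DCoh.HD ((DCoh.Lpull g).obj ((DCoh.restrictD V.ι).obj E)) i) := by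
      have h1 : IsZero (DCoh.HD ((DCoh.restrictD ((f.fiberι s) ⁻¹ᵁ V).ι).obj
          ((DCoh.Lpull (f.fiberι s)).obj E)) i) :=
        ((Scheme.Modules.restrictFunctor ((f.fiberι s) ⁻¹ᵁ V).ι).map_isZero hz).of_iso
          (hdRestrict ((f.fiberι s) ⁻¹ᵁ V).ι _ i)
      exact h1.of_iso ((DerivedCategory.homologyFunctor _ i).mapIso e).symm
    have h1 : IsZero (DCoh.HD ((DCoh.Lpull g).obj (DerivedCategory.Q.obj P)) i) := by
      have h2 : IsZero (DCoh.HD ((DCoh.Lpull g).obj C) (i - 1)) := by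
        have := isLE_lpull hA C (n - 1)
        exact (DerivedCategory.isLE_iff _ _).mp this (i - 1) (by omega)
      have h3 := isZero₁ hA _ hT (i - 1)
      have e : i - 1 + 1 = i := by omega
      rw [e] at h3
      exact h3 h0 h2
    rw [HomologicalComplex.exactAt_iff_isZero_homology]
    exact (h1.of_iso ((DerivedCategory.homologyFunctor _ i).mapIso
      (lpullIso hA P b (fun i hi => hab i (Or.inr hi)) hflat).symm)).of_iso
        ((DerivedCategory.homologyFunctorFactors _ i).app _).symm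

theorem subsingleton_stalk [Flat f] [LocallyOfFinitePresentation f] (E : DCoh.D X) (i : ℤ)
    (hE : DCoh.IsPseudoCoherentD (i - 1) E) (s : S) [DCoh.HasLpull (f.fiberι s)]
    (h : IsZero (DCoh.HD ((DCoh.Lpull (f.fiberι s)).obj E) i)) (y : f.fiber s) :
    Subsingleton ((DCoh.HD E i).presheaf.stalk (f.fiberι s y)) := by
  obtain ⟨V, W, g, q, H, w, P, h1, h2, h3, h4⟩ := exists_local f E (i - 1) hE s y
  have h5 := subsingleton_stalk_homology H w P h2 i (h4 i (by omega) h)
  obtain ⟨e⟩ := h3 i (by omega)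
  have h6 : Subsingleton (((DCoh.HD E i).restrict V.ι).presheaf.stalk (g w)) :=
    (stalkLinEquiv e (g w)).symm.injective.subsingleton
  rw [← h1]
  exact (Ega3B.FlatRestrict.stalkEquiv V.ι (DCoh.HD E i) (g w)).symm.injective.subsingleton

theorem isFlatOverAt_HD [Flat f] [LocallyOfFinitePresentation f] (E : DCoh.D X) (i : ℤ)
    (hE : DCoh.IsPseudoCoherentD (i - 2) E) (s : S) [DCoh.HasLpull (f.fiberι s)]
    (h : IsZero (DCoh.HD ((DCoh.Lpull (f.fiberι s)).obj E) (i - 1)))
    (h' : IsZero (DCoh.HD ((DCoh.Lpull (f.fiberι s)).obj E) (i + 1))) (y : f.fiber s) :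
    FlatMod.IsFlatOverAt f (DCoh.HD E i) (f.fiberι s y) := by
  obtain ⟨V, W, g, q, H, w, P, h1, h2, h3, h4⟩ := exists_local f E (i - 2) hE s y
  have h5 := isFlatOverAt_homology H w P h2 (i - 1) i (i + 1) (i + 2) (by omega) rfl (by omega)
    (h4 _ (by omega) h) (h4 _ (by omega) h')
  obtain ⟨e⟩ := h3 i (by omega)
  have h6 := RelFlat.isFlatOverAt_of_iso (V.ι ≫ f) e (g w) h5
  rw [Ega3B.FlatRestrict.isFlatOverAt_restrict_iff_comp] at h6
  rw [← h1]
  exact h6

/-- If `H^i(Lι_s^* E) = 0` for all `s : S` then `H^i(E) = 0`. -/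
theorem isZero_HD_of_fibre [Flat f] [LocallyOfFinitePresentation f] (E : DCoh.D X) (i : ℤ)
    (hE : DCoh.IsPseudoCoherentD (i - 1) E) [∀ s : S, DCoh.HasLpull (f.fiberι s)]
    (h : ∀ s : S, IsZero (DCoh.HD ((DCoh.Lpull (f.fiberι s)).obj E) i)) : IsZero (DCoh.HD E i) := by
  rw [PerfB.FlatPull.isZero_iff_subsingleton]
  intro x
  have h1 := subsingleton_stalk f E i hE (f x) (h _) (f.asFiber x)
  rwa [f.fiberι_asFiber x] at h1

/-- If `H^{i-1}(Lι_s^* E) = 0 = H^{i+1}(Lι_s^* E)` for all `s : S` then `H^i(E)` is flat over `S`. -/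
theorem isFlatOver_HD_of_fibre [Flat f] [LocallyOfFinitePresentation f] (E : DCoh.D X) (i : ℤ)
    (hE : DCoh.IsPseudoCoherentD (i - 2) E) [∀ s : S, DCoh.HasLpull (f.fiberι s)]
    (h : ∀ s : S, IsZero (DCoh.HD ((DCoh.Lpull (f.fiberι s)).obj E) (i - 1)))
    (h' : ∀ s : S, IsZero (DCoh.HD ((DCoh.Lpull (f.fiberι s)).obj E) (i + 1))) :
    FlatMod.IsFlatOver f (DCoh.HD E i) := by
  intro x
  have h1 := isFlatOverAt_HD f E i hE (f x) (h _) (h' _) (f.asFiber x)
  rwa [f.fiberι_asFiber x] at h1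

end Global

end K174.FibVan
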