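import Mathlib.CategoryTheory.Preadditive.AdditiveFunctor
import Mathlib.CategoryTheory.Linear.LinearFunctor
import Mathlib.Algebra.Category.ModuleCat.Abelian
import Mathlib.RingTheory.PicardGroup
import Mathlib.Algebra.Module.Projective

/-!
# Additive functors on finite projective modules

`Gen X Y`: the identity of `X` is a finite sum of endomorphisms factoring through `Y`.  A finite projective
module satisfies `Gen P A`; properties of `G(A)` pass to `G(P)` for additive functors `G`.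
-/

set_option autoImplicit false
universe w v v' u u'

open CategoryTheory CategoryTheory.Limits

namespace K174.FinProj

section Abs

variable {C : Type u} [Category.{v} C] [Preadditive C] {D : Type u'} [Category.{v'} D] [Preadditive D]

/-- The identity of `X` is a finite sum of endomorphisms factoring through `Y`. -/
def Gen (X Y : C) : Prop :=
  ∃ (n : ℕ) (π : Fin n → (X ⟶ Y)) (ι : Fin n → (Y ⟶ X)), ∑ i, π i ≫ ι i = 𝟙 X

lemma Gen.refl (X : C) : Gen X X := ⟨1, fun _ => 𝟙 X, fun _ => 𝟙 X, by simp⟩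

lemma Gen.map {X Y : C} (h : Gen X Y) (G : C ⥤ D) [G.Additive] : Gen (G.obj X) (G.obj Y) := by
  obtain ⟨n, π, ι, h⟩ := h
  refine ⟨n, fun i => G.map (π i), fun i => G.map (ι i), ?_⟩
  simp_rw [← G.map_comp]
  rw [← G.map_sum, h, G.map_id]

lemma Gen.hom_eq {X Y Z : C} {n : ℕ} {π : Fin n → (X ⟶ Y)} {ι : Fin n → (Y ⟶ X)}
    (h : ∑ i, π i ≫ ι i = 𝟙 X) (f : X ⟶ Z) : f = ∑ i, π i ≫ ι i ≫ f := by
  calc f = (∑ i, π i ≫ ι i) ≫ f := by rw [h, Category.id_comp]
    _ = _ := by rw [Preadditive.sum_comp]; simp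

lemma Gen.hom_eq' {X Y Z : C} {n : ℕ} {π : Fin n → (X ⟶ Y)} {ι : Fin n → (Y ⟶ X)}
    (h : ∑ i, π i ≫ ι i = 𝟙 X) (f : Z ⟶ X) : f = ∑ i, (f ≫ π i) ≫ ι i := by
  calc f = f ≫ (∑ i, π i ≫ ι i) := by rw [h, Category.comp_id]
    _ = _ := by rw [Preadditive.comp_sum]; simp

lemma Gen.eq_zero_left {X Y Z : C} (h : Gen X Y) (hz : ∀ g : Y ⟶ Z, g = 0) (f : X ⟶ Z) : f = 0 := by
  obtain ⟨n, π, ι, h⟩ := h
  rw [Gen.hom_eq h f]
  exact Finset.sum_eq_zero fun i _ => by rw [hz (ι i ≫ f), comp_zero]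

lemma Gen.eq_zero_right {X Y Z : C} (h : Gen X Y) (hz : ∀ g : Z ⟶ Y, g = 0) (f : Z ⟶ X) :
    f = 0 := by
  obtain ⟨n, π, ι, h⟩ := h
  rw [Gen.hom_eq' h f]
  exact Finset.sum_eq_zero fun i _ => by rw [hz (f ≫ π i), zero_comp]

lemma bijective_left (G : C ⥤ D) [G.Additive] {X Y Z : C} (h : Gen X Y)
    (hY : Function.Bijective (fun f : Y ⟶ Z => G.map f)) :
    Function.Bijective (fun f : X ⟶ Z => G.map f) := by
  obtain ⟨n, π, ι, h⟩ := h
  constructor
  · intro f g hfg
    rw [Gen.hom_eq h f, Gen.hom_eq h g]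
    refine Finset.sum_congr rfl fun i _ => ?_
    congr 1
    apply hY.1
    change G.map _ = G.map _
    rw [G.map_comp, G.map_comp]
    exact congrArg _ hfg
  · intro g
    choose k hk using fun i => hY.2 (G.map (ι i) ≫ g)
    refine ⟨∑ i, π i ≫ k i, ?_⟩
    change G.map _ = _
    have hid : ∑ i, G.map (π i) ≫ G.map (ι i) = 𝟙 (G.obj X) := by
      simp_rw [← G.map_comp]
      rw [← G.map_sum, h, G.map_id]
    rw [G.map_sum, Gen.hom_eq hid g]
    refine Finset.sum_congr rfl fun i _ => ?_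
    rw [G.map_comp]
    exact congrArg _ (hk i)

lemma bijective_right (G : C ⥤ D) [G.Additive] {X Y Z : C} (h : Gen X Y)
    (hY : Function.Bijective (fun f : Z ⟶ Y => G.map f)) :
    Function.Bijective (fun f : Z ⟶ X => G.map f) := by
  obtain ⟨n, π, ι, h⟩ := h
  constructor
  · intro f g hfg
    rw [Gen.hom_eq' h f, Gen.hom_eq' h g]
    refine Finset.sum_congr rfl fun i _ => ?_
    congr 1
    apply hY.1
    change G.map _ = G.map _
    rw [G.map_comp, G.map_comp]
    exact congrArg (· ≫ G.map (π i)) hfg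
  · intro g
    choose k hk using fun i => hY.2 (g ≫ G.map (π i))
    refine ⟨∑ i, k i ≫ ι i, ?_⟩
    change G.map _ = _
    have hid : ∑ i, G.map (π i) ≫ G.map (ι i) = 𝟙 (G.obj X) := by
      simp_rw [← G.map_comp]
      rw [← G.map_sum, h, G.map_id]
    rw [G.map_sum, Gen.hom_eq' hid g]
    refine Finset.sum_congr rfl fun i _ => ?_
    rw [G.map_comp]
    exact congrArg (· ≫ G.map (ι i)) (hk i)

end Abs

section Mod

variable {A : Type u} [CommRing A]

/-- The dual basis lemma. -/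
theorem gen_of_projective (P : Type u) [AddCommGroup P] [Module A P] [Module.Finite A P]
    [Module.Projective A P] : Gen (ModuleCat.of A P) (ModuleCat.of A A) := by
  obtain ⟨n, f, g, hf, hg, hfg⟩ := Module.Finite.exists_comp_eq_id_of_projective A P
  refine ⟨n, fun i => ModuleCat.ofHom ((LinearMap.proj i).comp g),
    fun i => ModuleCat.ofHom (f.comp (LinearMap.single A (fun _ => A) i)), ?_⟩
  ext x
  have h1 : f (g x) = x := LinearMap.congr_fun hfg x
  have h2 : g x = ∑ i, LinearMap.single A (fun _ => A) i (g x i) := by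
    ext j
    simp [Finset.sum_apply, Pi.single_apply]
  simp only [ModuleCat.hom_sum, ModuleCat.hom_comp, ModuleCat.hom_ofHom, ModuleCat.hom_id,
    LinearMap.sum_apply, LinearMap.comp_apply, LinearMap.proj_apply, LinearMap.id_apply]
  rw [← map_sum, ← h2, h1]

end Mod

end K174.FinProj
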