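import Groth.Agent.Localalg.DRingHom
import Groth.Agent.PerfA.TildeMain

/-!
# Maps given by `End P`-linear maps on `Hom(P, -)`

`IsRefl P L G`: every additive map `Hom(P, L) → Hom(P, G)` which is linear for `End P` is given by a unique
morphism `L ⟶ G`. This holds in `D(A)` for `P = A`, `L` in degrees `≤ 0`, `G` a module.
-/

set_option autoImplicit false
universe v u
open CategoryTheory CategoryTheory.Limits Pretriangulated
attribute [local instance] HasDerivedCategory.standard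

namespace K174.Refl

section Abstract

variable {C : Type*} [Category* C] [Preadditive C]

/-- Every `End P`-linear map `Hom(P, L) → Hom(P, G)` comes from a unique morphism. -/
def IsRefl (P L G : C) : Prop :=
  ∀ ψ : (P ⟶ L) →+ (P ⟶ G), (∀ (a : P ⟶ P) (t : P ⟶ L), ψ (a ≫ t) = a ≫ ψ t) →
    ∃! φ : L ⟶ G, ∀ t : P ⟶ L, t ≫ φ = ψ t

theorem IsRefl.map {D : Type*} [Category* D] [Preadditive D] (T : C ⥤ D) [T.Full] [T.Faithful]
    [T.Additive] {P L G : C} (h : IsRefl P L G) : IsRefl (T.obj P) (T.obj L) (T.obj G) := by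
  intro ψ hψ
  let ψ' : (P ⟶ L) →+ (P ⟶ G) :=
    { toFun := fun t => T.preimage (ψ (T.map t))
      map_zero' := by
        apply T.map_injective
        rw [T.map_preimage, T.map_zero, map_zero, T.map_zero]
      map_add' := fun s t => by
        apply T.map_injective
        rw [T.map_preimage, T.map_add, map_add, T.map_add, T.map_preimage, T.map_preimage] }
  have h1 : ∀ t, T.map (ψ' t) = ψ (T.map t) := fun t => T.map_preimage _
  obtain ⟨φ, hφ, hu⟩ := h ψ' fun a t => by
    apply T.map_injective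
    rw [h1, T.map_comp, hψ, T.map_comp, h1]
  refine ⟨T.map φ, fun t => ?_, fun φ' hφ' => ?_⟩
  · obtain ⟨t, rfl⟩ := T.map_surjective t
    rw [← h1, ← hφ t, T.map_comp]
  · obtain ⟨φ', rfl⟩ := T.map_surjective φ'
    rw [hu φ' fun t => T.map_injective (by rw [T.map_comp, hφ', h1])]

theorem IsRefl.of_hom {P L L' G : C} (h : IsRefl P L' G) (π : L ⟶ L')
    (h1 : Function.Bijective (fun φ : L' ⟶ G => π ≫ φ))
    (h2 : Function.Bijective (fun t : P ⟶ L => t ≫ π)) : IsRefl P L G := by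
  intro ψ hψ
  let e0 : (P ⟶ L) →+ (P ⟶ L') :=
    { toFun := fun t => t ≫ π
      map_zero' := zero_comp
      map_add' := fun s t => Preadditive.add_comp _ _ _ s t π }
  let e : (P ⟶ L) ≃+ (P ⟶ L') := AddEquiv.ofBijective e0 h2
  have he : ∀ t, e t = t ≫ π := fun t => rfl
  obtain ⟨φ, hφ, hu⟩ := h (ψ.comp e.symm.toAddMonoidHom) fun a t => by
    have h3 : e.symm (a ≫ t) = a ≫ e.symm t := by
      apply e.injective
      rw [e.apply_symm_apply, he, Category.assoc, ← he, e.apply_symm_apply]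
    change ψ (e.symm (a ≫ t)) = a ≫ ψ (e.symm t)
    rw [h3, hψ]
  refine ⟨π ≫ φ, fun t => ?_, fun φ' hφ' => ?_⟩
  · rw [← Category.assoc, hφ (t ≫ π)]
    change ψ (e.symm (e t)) = _
    rw [e.symm_apply_apply]
  · obtain ⟨φ', rfl⟩ := h1.2 φ'
    rw [hu φ' fun t => ?_]
    have h4 := hφ' (e.symm t)
    dsimp only at h4
    rw [← Category.assoc, ← he, e.apply_symm_apply] at h4
    exact h4

theorem IsRefl.of_iso {P P' L L' G G' : C} (h : IsRefl P L G) (eP : P ≅ P') (eL : L ≅ L')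
    (eG : G ≅ G') : IsRefl P' L' G' := by
  intro ψ hψ
  let ψ' : (P ⟶ L) →+ (P ⟶ G) :=
    { toFun := fun t => eP.hom ≫ ψ (eP.inv ≫ t ≫ eL.hom) ≫ eG.inv
      map_zero' := by rw [zero_comp, comp_zero, map_zero, zero_comp, comp_zero]
      map_add' := fun s t => by
        rw [Preadditive.add_comp, Preadditive.comp_add, map_add, Preadditive.add_comp,
          Preadditive.comp_add] }
  have h1 : ∀ t, ψ' t = eP.hom ≫ ψ (eP.inv ≫ t ≫ eL.hom) ≫ eG.inv := fun t => rfl
  obtain ⟨φ, hφ, hu⟩ := h ψ' fun a t => by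
    rw [h1, h1]
    have h2 : eP.inv ≫ (a ≫ t) ≫ eL.hom = (eP.inv ≫ a ≫ eP.hom) ≫ eP.inv ≫ t ≫ eL.hom := by simp
    rw [h2, hψ]
    simp
  refine ⟨eL.inv ≫ φ ≫ eG.hom, fun t => ?_, fun φ' hφ' => ?_⟩
  · have h2 := hφ (eP.hom ≫ t ≫ eL.inv)
    rw [h1] at h2
    have h3 : eP.inv ≫ (eP.hom ≫ t ≫ eL.inv) ≫ eL.hom = t := by simp
    rw [h3] at h2
    have h4 := congrArg (fun z => eP.inv ≫ z ≫ eG.hom) h2
    simpa using h4
  · have h2 := hu (eL.hom ≫ φ' ≫ eG.inv) fun t => by
      rw [h1, ← hφ']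
      simp
    rw [← h2]
    simp

end Abstract

section Mod

variable (A : Type u) [CommRing A]

/-- the map `A ⟶ N` with value `x` at `1`. -/
def el (N : ModuleCat.{u} A) (x : N) : ModuleCat.of A A ⟶ N :=
  ModuleCat.ofHom (LinearMap.toSpanSingleton A N x)

theorem el_apply (N : ModuleCat.{u} A) (x : N) (a : A) : (el A N x).hom a = a • x := rfl

theorem hom_eq {N : ModuleCat.{u} A} {s t : ModuleCat.of A A ⟶ N} (h : s.hom (1 : A) = t.hom (1 : A)) :
    s = t := by
  ext1
  exact LinearMap.ext_ring h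

theorem eq_el {N : ModuleCat.{u} A} (t : ModuleCat.of A A ⟶ N) : t = el A N (t.hom (1 : A)) :=
  hom_eq A (by rw [el_apply, one_smul])

theorem isRefl_mod (N G : ModuleCat.{u} A) : IsRefl (ModuleCat.of A A) N G := by
  intro ψ hψ
  let φ : N →ₗ[A] G :=
    { toFun := fun x => (ψ (el A N x)).hom (1 : A)
      map_add' := fun x y => by
        have : el A N (x + y) = el A N x + el A N y := by
          refine hom_eq A ?_
          rw [ModuleCat.hom_add, LinearMap.add_apply, el_apply, el_apply, el_apply, smul_add]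
        rw [this, map_add, ModuleCat.hom_add, LinearMap.add_apply]
      map_smul' := fun a x => by
        have : el A N (a • x) = el A (ModuleCat.of A A) a ≫ el A N x := by
          refine hom_eq A ?_
          rw [ModuleCat.hom_comp, LinearMap.comp_apply, el_apply, el_apply, el_apply, one_smul]
          rw [show (1 : A) • (a : ModuleCat.of A A) = a from one_smul A a]
        rw [this, hψ, ModuleCat.hom_comp, LinearMap.comp_apply, el_apply]
        rw [show (1 : A) • (a : ModuleCat.of A A) = a • (1 : A) from by simp]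
        exact map_smul _ _ _ }
  refine ⟨ModuleCat.ofHom φ, fun t => ?_, fun φ' hφ' => ?_⟩
  · refine hom_eq A ?_
    change (ψ (el A N (t.hom (1 : A)))).hom (1 : A) = _
    rw [← eq_el]
  · ext x
    change φ'.hom x = (ψ (el A N x)).hom (1 : A)
    rw [← hφ', ModuleCat.hom_comp, LinearMap.comp_apply, el_apply, one_smul]

end Mod

section Tri

variable {C : Type*} [Category* C] [Preadditive C] [HasZeroObject C] [HasShift C ℤ]
  [∀ n : ℤ, (shiftFunctor C n).Additive] [Pretriangulated C]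

theorem pre_bijective {T : Triangle C} (hT : T ∈ distTriang C) {G : C}
    (h1 : ∀ x : T.obj₁ ⟶ G, x = 0) (h2 : ∀ x : T.obj₁⟦(1 : ℤ)⟧ ⟶ G, x = 0) :
    Function.Bijective (fun φ : T.obj₃ ⟶ G => T.mor₂ ≫ φ) := by
  constructor
  · intro φ φ' e
    dsimp only at e
    obtain ⟨x, hx⟩ := Triangle.yoneda_exact₃ T hT (φ - φ') (by rw [Preadditive.comp_sub, e, sub_self])
    rw [h2 x, comp_zero] at hx
    exact sub_eq_zero.1 hx
  · intro x
    obtain ⟨y, hy⟩ := Triangle.yoneda_exact₂ T hT x (h1 _)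
    exact ⟨y, hy.symm⟩

theorem post_bijective {T : Triangle C} (hT : T ∈ distTriang C) {P : C}
    (h1 : ∀ x : P ⟶ T.obj₁, x = 0) (h2 : ∀ x : P ⟶ T.obj₁⟦(1 : ℤ)⟧, x = 0) :
    Function.Bijective (fun t : P ⟶ T.obj₂ => t ≫ T.mor₂) := by
  constructor
  · intro t t' e
    dsimp only at e
    obtain ⟨x, hx⟩ := Triangle.coyoneda_exact₂ T hT (t - t') (by rw [Preadditive.sub_comp, e, sub_self])
    rw [h1 x, zero_comp] at hx
    exact sub_eq_zero.1 hx
  · intro s
    obtain ⟨t, ht⟩ := Triangle.coyoneda_exact₃ T hT s (h2 _)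
    exact ⟨t, ht.symm⟩

end Tri

section Der

variable (A : Type u) [CommRing A]

theorem eq_zero_of_isLE (E : Dual.D A) [E.IsLE (-1)] (x : Dual.inD A A ⟶ E) : x = 0 := by
  have h1 := Groth.Agent.Localalg.DProj.toHomology_bijective (ModuleCat.of A A) E
  apply h1.1
  refine IsZero.eq_of_tgt ?_ _ _
  exact E.isZero_of_isLE (-1) 0 (by lia)

theorem isRefl_single (N G : ModuleCat.{u} A) : IsRefl (Dual.inD A A) (Dual.inD A N) (Dual.inD A G) :=
  (isRefl_mod A N G).map (DerivedCategory.singleFunctor (ModuleCat.{u} A) 0)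

theorem isRefl_of_isLE (E : Dual.D A) [E.IsLE 0] (G : ModuleCat.{u} A) :
    IsRefl (Dual.inD A A) E (Dual.inD A G) := by
  let t := DerivedCategory.TStructure.t (C := ModuleCat.{u} A)
  have hT := t.triangleLTGE_distinguished 0 E
  have hLE : ((t.truncLT 0).obj E).IsLE (-1) := t.isLE_truncLT_obj E 0 (-1)
  have hGE : ((t.truncGE 0).obj E).IsGE 0 := t.isGE_truncGE_obj E 0 0
  have hLE' : (((t.truncLT 0).obj E)⟦(1 : ℤ)⟧).IsLE (-2) := t.isLE_shift _ (-1) 1 (-2) (by lia)
  have hLE'' : (((t.truncLT 0).obj E)⟦(1 : ℤ)⟧).IsLE (-1) := t.isLE_of_le _ (-2) (-1) (by lia)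
  have hLE4 : (((t.truncLT 0).obj E)⟦(1 : ℤ)⟧).IsLE 0 := t.isLE_of_le _ (-2) 0 (by lia)
  have hE : E.IsLE 0 := inferInstance
  have hLE3 : ((t.truncGE 0).obj E).IsLE 0 := t.isLE₂ _ (rot_of_distTriang _ hT) 0 hE hLE4
  obtain ⟨N, ⟨e⟩⟩ := DerivedCategory.exists_iso_singleFunctor_obj_of_isGE_of_isLE
    ((t.truncGE 0).obj E) 0
  have hG : (Dual.inD A G).IsGE 0 := inferInstance
  refine ((isRefl_single A N G).of_iso (Iso.refl _) e.symm (Iso.refl _)).of_hom
    ((t.truncGEπ 0).app E) ?_ ?_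
  · exact pre_bijective hT (fun x => t.zero_of_isLE_of_isGE x (-1) 0 (by lia) hLE hG)
      (fun x => t.zero_of_isLE_of_isGE x (-1) 0 (by lia) hLE'' hG)
  · exact post_bijective hT (fun x => @eq_zero_of_isLE A _ _ hLE x)
      (fun x => @eq_zero_of_isLE A _ _ hLE'' x)

end Der

end K174.Refl
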