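import Groth.Agent.Dual.K174.Basic
import Groth.Agent.DRing.K232.KVan
import Groth.Agent.DRing.K227.PerfFlat
import Groth.Agent.DRing.K228.TorPerf
import Groth.Agent.S1819
import Groth.Agent.LoccohB.PCNoeth

/-!
# Symmetry of `Hom(X, RHom(Y, Z))` and vanishing of Hom for bounded complexes of projectives or injectives
-/

set_option autoImplicit false
universe u

open CategoryTheory CategoryTheory.Limits Pretriangulated

attribute [local instance] HasDerivedCategory.standard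

namespace K174.SymHom

open DerivedCategory Groth.Agent.LoccohB Groth.Agent.LoccohB.LTen Groth.Agent.PerfC.IsoLocus

variable {A : Type u} [CommRing A]

/-- symmetry of the derived tensor product. -/
theorem nonempty_lten_symm (X Y : DRing.Cx A) [DRing.HasLTensorCx A X] [DRing.HasLTensorCx A Y] :
    Nonempty ((DRing.LTensorCx A Y).obj (DRing.toD X) ≅ (DRing.LTensorCx A X).obj (DRing.toD Y)) := by
  obtain ⟨P, hP, ⟨eP⟩⟩ := exists_kproj (DRing.toD X)
  obtain ⟨P', hP', ⟨eP'⟩⟩ := exists_kproj (DRing.toD Y)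
  have := hasLTensorCx P
  have := hasLTensorCx P'
  obtain ⟨e1⟩ := ltenCongr (E := Y) (E' := P') eP'.symm
  obtain ⟨e2⟩ := ltenCongr (E := X) (E' := P) eP.symm
  exact ⟨e1.app _ ≪≫ (DRing.LTensorCx A P').mapIso eP.symm ≪≫ (ltenIso P' P) ≪≫
    Q.mapIso (swapIso P P') ≪≫ (ltenIso P P').symm ≪≫ (DRing.LTensorCx A P).mapIso eP' ≪≫
    (e2.app _).symm⟩

/-- `Hom(X, RHom(Y, Z)) = Hom(Y, RHom(X, Z))`. -/
theorem nonempty_hom_symm (X Y : DRing.Cx A) [DRing.HasRHomCx X] [DRing.HasRHomCx Y] (Z : Dual.D A) :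
    Nonempty ((DRing.toD X ⟶ (DRing.RHomCx Y).obj Z) ≃ (DRing.toD Y ⟶ (DRing.RHomCx X).obj Z)) := by
  have := hasLTensorCx X
  have := hasLTensorCx Y
  obtain ⟨e⟩ := nonempty_lten_symm X Y
  exact ⟨((ltenAdj Y).homEquiv _ _).symm.trans (((e.homCongr (Iso.refl _))).trans
    ((ltenAdj X).homEquiv _ _))⟩

/-- shifted version. -/
theorem nonempty_hom_symm_shift (X Y : DRing.Cx A) [DRing.HasRHomCx X] [DRing.HasRHomCx Y]
    (Z : Dual.D A) (i : ℤ) :
    Nonempty ((DRing.toD X ⟶ ((DRing.RHomCx Y).obj Z)⟦i⟧) ≃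
      (DRing.toD Y ⟶ ((DRing.RHomCx X).obj Z)⟦i⟧)) := by
  obtain ⟨_, _⟩ := K232.TriTen.isTriang_RHomCx Y
  obtain ⟨_, _⟩ := K232.TriTen.isTriang_RHomCx X
  obtain ⟨e⟩ := nonempty_hom_symm X Y (Z⟦i⟧)
  exact ⟨(((Iso.refl _).homCongr (((DRing.RHomCx Y).commShiftIso i).app Z)).symm.trans e).trans
    ((Iso.refl _).homCongr (((DRing.RHomCx X).commShiftIso i).app Z))⟩

/-- maps from a K-projective complex in degrees `≥ c` to `D^{≤ c'}`, `c' < c`, vanish. -/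
theorem subsingleton_of_proj (P : DRing.Cx A) [P.IsKProjective] (c : ℤ)
    (hP : ∀ i, i < c → IsZero (P.X i)) (Y : Dual.D A) (c' : ℤ) (hc : c' < c) [Y.IsLE c'] :
    Subsingleton (Q.obj P ⟶ Y) := by
  obtain ⟨Z, hZ, ⟨e⟩⟩ := Y.exists_iso_Q_obj_of_isLE c'
  have h0 : ∀ f : Q.obj P ⟶ Y, f = 0 := by
    intro f
    obtain ⟨g, hg⟩ := KDer.liftsFrom_Q P (f ≫ e.hom)
    have hg0 : g = 0 := by
      ext i : 1
      by_cases hi : i < c
      · exact (hP i hi).eq_of_src _ _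
      · exact (CochainComplex.isZero_of_isStrictlyLE Z c' i (by omega)).eq_of_tgt _ _
    rw [← cancel_mono e.hom, ← hg, hg0, Functor.map_zero, zero_comp]
  exact ⟨fun f g => by rw [h0 f, h0 g]⟩

/-- maps from `D^{≥ c'}` to a K-injective complex in degrees `≤ c < c'` vanish. -/
theorem subsingleton_of_inj (J : DRing.Cx A) [J.IsKInjective] (c : ℤ)
    (hJ : ∀ i, c < i → IsZero (J.X i)) (Y : Dual.D A) (c' : ℤ) (hc : c < c') [Y.IsGE c'] :
    Subsingleton (Y ⟶ Q.obj J) := by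
  obtain ⟨Z, hZ, ⟨e⟩⟩ := Y.exists_iso_Q_obj_of_isGE c'
  have h0 : ∀ f : Y ⟶ Q.obj J, f = 0 := by
    intro f
    obtain ⟨g, hg⟩ := HomCx.exists_Q_map_eq (e.inv ≫ f)
    have hg0 : g = 0 := by
      ext i : 1
      by_cases hi : c < i
      · exact (hJ i hi).eq_of_tgt _ _
      · exact (CochainComplex.isZero_of_isStrictlyGE Z c' i (by omega)).eq_of_src _ _
    rw [← cancel_epi e.inv, ← hg, hg0, Functor.map_zero, comp_zero]
  exact ⟨fun f g => by rw [h0 f, h0 g]⟩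

/-- A complex representing `M[0]`. -/
theorem exists_rep_inD (K : Dual.D A) : ∃ X : DRing.Cx A, Nonempty (DRing.toD X ≅ K) := by
  obtain ⟨P, -, ⟨e⟩⟩ := exists_kproj K
  exact ⟨P, ⟨e⟩⟩

/-- amplitude of `RHom(M, Z)`. -/
theorem isGE_rhom (X : DRing.Cx A) [DRing.HasRHomCx X] (Z : Dual.D A) (a : ℤ)
    (h : ∀ i, i < a → Subsingleton (DRing.toD X ⟶ Z⟦i⟧)) : ((DRing.RHomCx X).obj Z).IsGE a := by
  refine K228.Basic.isGE_of_subsingleton _ _ fun i hi => ?_
  obtain ⟨e⟩ := K232.KVan.nonempty_rhomH X Z i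
  have := h i hi
  exact e.toEquiv.subsingleton

theorem isLE_rhom (X : DRing.Cx A) [DRing.HasRHomCx X] (Z : Dual.D A) (a : ℤ)
    (h : ∀ i, a < i → Subsingleton (DRing.toD X ⟶ Z⟦i⟧)) : ((DRing.RHomCx X).obj Z).IsLE a := by
  refine K228.Basic.isLE_of_subsingleton _ _ fun i hi => ?_
  obtain ⟨e⟩ := K232.KVan.nonempty_rhomH X Z i
  have := h i hi
  exact e.toEquiv.subsingleton

end K174.SymHom
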