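import Groth.Agent.CurvesC.Dual1
import Groth.Agent.LoccohB.GorDesc
import Groth.Agent.LoccohB.LTenBC
import Groth.Agent.LoccohB.LTenUnit
import Mathlib.RingTheory.SimpleModule.InjectiveProjective

/-!
# Invertible objects of `D(A)` over a Noetherian local ring

`L ⊗ᴸ E ≅ A` with `L`, `E` bounded above with finite cohomology implies `L ≅ A[n]`, `E ≅ A[-n]`.
-/

set_option autoImplicit false
universe w v u

open CategoryTheory CategoryTheory.Limits MonoidalCategory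

attribute [local instance] HasDerivedCategory.standard

namespace K174.TensInv

open DerivedCategory Groth.Agent Groth.Agent.LoccohB

section Field

variable (k : Type u) [Field k]

/-- `k` in degree `n`. -/
noncomputable abbrev sk (n : ℤ) : Dual.D k := (singleFunctor (ModuleCat.{u} k) n).obj (ModuleCat.of k k)

variable {k}

/-- A nonzero cohomology class splits off a summand. -/
theorem exists_retract (M : Dual.D k) (n : ℤ) (x : Dual.HD k M n) (hx : x ≠ 0) :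
    ∃ (s : sk k n ⟶ M) (r : M ⟶ sk k n), s ≫ r = 𝟙 _ := by
  have hproj : Projective (ModuleCat.of k k) :=
    (IsProjective.iff_projective (ModuleCat.of k k)).1 inferInstance
  have hinj : Injective (ModuleCat.of k k) := by
    have : Module.Injective k k := Module.injective_of_isSemisimpleRing k k
    exact Module.injective_object_of_injective_module k k
  obtain ⟨s, hs⟩ := (DBase.homToH_bijective n (ModuleCat.of k k) M).2
    (ModuleCat.ofHom (LinearMap.toSpanSingleton k (Dual.HD k M n) x))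
  obtain ⟨g, -, hg⟩ : ∃ g : Dual.HD k M n →ₗ[k] k, g.comp (⊥ : Submodule k (Dual.HD k M n)).subtype
      = 0 ∧ g x = 1 := LinearMap.exists_extend_of_notMem 0 (by simpa using hx) 1
  obtain ⟨r, hr⟩ := (CurvesC.Dual1.homologyFunctor_map_bijective M (ModuleCat.of k k) n).2
    (ModuleCat.ofHom g ≫ (singleFunctorCompHomologyFunctorIso (ModuleCat.{u} k) n).inv.app
      (ModuleCat.of k k))
  refine ⟨s, r, ?_⟩
  apply (DBase.homToH_bijective n (ModuleCat.of k k) (sk k n)).1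
  rw [DBase.homToH_comp]
  refine (congrArg₂ (· ≫ ·) hs hr).trans ?_
  have h1 : ModuleCat.ofHom (LinearMap.toSpanSingleton k (Dual.HD k M n) x) ≫ ModuleCat.ofHom g =
      𝟙 (ModuleCat.of k k) := by
    ext
    simp [hg]
  change ModuleCat.ofHom (LinearMap.toSpanSingleton k (Dual.HD k M n) x) ≫ (ModuleCat.ofHom g ≫ _) = _
  rw [← Category.assoc]
  refine (congrArg (· ≫ _) h1).trans ?_
  refine (Category.id_comp _).trans ?_
  rw [DBase.homToH, CategoryTheory.Functor.map_id]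
  exact (Category.comp_id _).symm

/-- A retract of `k[-n]` is zero or all of it. -/
theorem retract_cases {n : ℤ} {Z : Dual.D k} (s : Z ⟶ sk k n) (r : sk k n ⟶ Z) (h : s ≫ r = 𝟙 Z) :
    IsZero Z ∨ Nonempty (Z ≅ sk k n) := by
  obtain ⟨c, hc⟩ : ∃ c : k, r ≫ s = c • 𝟙 (sk k n) := by
    let e := GorNak.homSgEquiv (A := k) n k
    by_cases h1 : e (𝟙 (sk k n)) = 0
    · refine ⟨0, ?_⟩
      have h2 : 𝟙 (sk k n) = 0 := e.injective (by rw [h1, map_zero])
      rw [zero_smul, ← Category.comp_id (r ≫ s), h2, comp_zero]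
    · refine ⟨e (r ≫ s) / e (𝟙 (sk k n)), ?_⟩
      apply e.injective
      rw [map_smul, smul_eq_mul, div_mul_cancel₀ _ h1]
  have hcc : (c * c) • 𝟙 (sk k n) = c • 𝟙 (sk k n) := by
    have h1 : (r ≫ s) ≫ (r ≫ s) = r ≫ s := by
      rw [Category.assoc, ← Category.assoc s r s, h, Category.id_comp]
    rw [hc] at h1
    simpa [smul_smul] using h1
  by_cases hc0 : c = 0
  · left
    rw [IsZero.iff_id_eq_zero]
    calc 𝟙 Z = s ≫ (r ≫ s) ≫ r := by simp [h]
      _ = 0 := by rw [hc, hc0, zero_smul, zero_comp, comp_zero]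
  · right
    have hone : r ≫ s = 𝟙 _ := by
      have h2 : c⁻¹ • ((c * c) • 𝟙 (sk k n)) = c⁻¹ • (c • 𝟙 (sk k n)) := by rw [hcc]
      rw [smul_smul, smul_smul, inv_mul_cancel₀ hc0, one_smul, ← mul_assoc,
        inv_mul_cancel₀ hc0, one_mul] at h2
      rw [hc, h2]
    exact ⟨⟨s, r, h, hone⟩⟩

end Field

section Ring

variable {A : Type u} [CommRing A]

/-- `0 ⊗ᴸ` -/
theorem isZero_lten_of_isZero (E : DRing.Cx A) [DRing.HasLTensorCx A E] (hE : IsZero (Q.obj E))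
    (K : Dual.D A) : IsZero ((DRing.LTensorCx A E).obj K) := by
  obtain ⟨P, hP, ⟨e⟩⟩ := LTen.exists_kproj K
  obtain ⟨O, hO⟩ : ∃ O : DRing.Cx A, IsZero O := ⟨_, isZero_zero _⟩
  have := LTen.hasLTensorCx O
  have h0 : IsZero (Q.obj O) := Functor.map_isZero _ hO
  obtain ⟨f⟩ := LTen.ltenCongr (E := E) (E' := O) (hE.iso h0)
  refine IsZero.of_iso ?_ (f.app K ≪≫ (DRing.LTensorCx A O).mapIso e.symm ≪≫ LTen.ltenIso O P)
  refine Functor.map_isZero _ ?_
  rw [IsZero.iff_id_eq_zero]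
  refine TenCx.cx_hom_ext fun p q n h x y => ?_
  have hy : y = 0 := by
    have h1 : IsZero (O.X q) := Functor.map_isZero (HomologicalComplex.eval _ _ q) hO
    have h2 : Subsingleton (O.X q) := ModuleCat.isZero_iff_subsingleton.1 h1
    exact h2.elim _ _
  subst hy
  have h3 : TenCx.tmk P O p q n h x 0 = 0 := map_zero (TenCx.tmk P O p q n h x)
  rw [h3, map_zero, map_zero]

/-- `K ⊗ᴸ A[-n] ≅ K[-n]`. -/
theorem nonempty_lten_sg (n : ℤ) [DRing.HasLTensorCx A (LTenUnit.sg A n)] (K : Dual.D A) :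
    Nonempty ((DRing.LTensorCx A (LTenUnit.sg A n)).obj K ≅ K⟦-n⟧) := by
  obtain ⟨P, hP, ⟨e⟩⟩ := LTen.exists_kproj K
  exact ⟨(DRing.LTensorCx A (LTenUnit.sg A n)).mapIso e.symm ≪≫ LTen.ltenIso (LTenUnit.sg A n) P ≪≫
    Q.mapIso (LTen.swapIso P (LTenUnit.sg A n) ≪≫ LTenUnit.sgTen P n) ≪≫ (Q.commShiftIso (-n)).app P ≪≫
    (shiftFunctor (Dual.D A) (-n)).mapIso e⟩

end Ring

section FieldMain

variable {k : Type u} [Field k]

/-- Invertible objects over a field. -/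
theorem field_case (M : Dual.D k) (Y : DRing.Cx k) [DRing.HasLTensorCx k Y]
    (h : (DRing.LTensorCx k Y).obj M ≅ sk k 0) :
    ∃ n : ℤ, Nonempty (M ≅ sk k n) ∧ Nonempty (Q.obj Y ≅ sk k (-n)) := by
  have hR := RHomVal.hasRHomCx Y
  have hL : (DRing.LTensorCx k Y).IsLeftAdjoint := (LTen.ltenAdj Y).isLeftAdjoint
  have hne : ¬ IsZero (sk k 0) := by
    intro hz
    have h1 : Subsingleton (sk k 0 ⟶ sk k 0) := ⟨fun f g => hz.eq_of_src f g⟩
    have h2 : Subsingleton k := (GorNak.homSgEquiv (A := k) 0 k).toEquiv.subsingleton_congr.1 h1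
    exact not_subsingleton k h2
  have hM : ¬ IsZero M := fun hz => hne (IsZero.of_iso (Functor.map_isZero _ hz) h.symm)
  have hY : ¬ IsZero (Q.obj Y) := fun hz => hne (IsZero.of_iso (isZero_lten_of_isZero Y hz M) h.symm)
  obtain ⟨n, hn⟩ : ∃ n : ℤ, ¬ IsZero ((homologyFunctor (ModuleCat.{u} k) n).obj M) := by
    by_contra hcon
    push Not at hcon
    exact hM ((DCalc.isZero_iff M).2 hcon)
  have hnt : Nontrivial (Dual.HD k M n) := by
    rw [← not_subsingleton_iff_nontrivial]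
    intro hs
    exact hn (ModuleCat.isZero_iff_subsingleton.2 hs)
  obtain ⟨x, hx⟩ := exists_ne (0 : Dual.HD k M n)
  obtain ⟨s, r, hsr⟩ := exists_retract M n x hx
  have e0 : sk k n ≅ Q.obj (LTenUnit.sg k n) :=
    (singleFunctorIsoCompQ (ModuleCat.{u} k) n).app (ModuleCat.of k k)
  let e1 : (DRing.LTensorCx k Y).obj (sk k n) ≅ (Q.obj Y)⟦-n⟧ :=
    (DRing.LTensorCx k Y).mapIso e0 ≪≫ LTenUnit.ltenSg Y n
  have hret : (e1.inv ≫ (DRing.LTensorCx k Y).map s ≫ h.hom) ≫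
      (h.inv ≫ (DRing.LTensorCx k Y).map r ≫ e1.hom) = 𝟙 ((Q.obj Y)⟦-n⟧) := by
    have h3 : (DRing.LTensorCx k Y).map s ≫ (DRing.LTensorCx k Y).map r = 𝟙 _ := by
      rw [← Functor.map_comp, hsr, CategoryTheory.Functor.map_id]
    simp only [Category.assoc, Iso.hom_inv_id_assoc]
    rw [reassoc_of% h3]
    simp
  refine ⟨n, ?_⟩
  rcases retract_cases _ _ hret with hz | ⟨⟨g⟩⟩
  · exact absurd (IsZero.of_iso (Functor.map_isZero (shiftFunctor (Dual.D k) n) hz)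
      (shiftNegShift (Q.obj Y) n).symm) hY
  · have hYn : Nonempty (Q.obj Y ≅ sk k (-n)) :=
      ⟨(shiftNegShift (Q.obj Y) n).symm ≪≫ (shiftFunctor (Dual.D k) n).mapIso g ≪≫
        ((singleFunctors (ModuleCat.{u} k)).shiftIso n (-n) 0 (by simp)).app _⟩
    obtain ⟨gY⟩ := hYn
    refine ⟨?_, ⟨gY⟩⟩
    have := LTen.hasLTensorCx (LTenUnit.sg k (-n))
    obtain ⟨c⟩ := LTen.ltenCongr (E := Y) (E' := LTenUnit.sg k (-n))
      (gY ≪≫ (singleFunctorIsoCompQ (ModuleCat.{u} k) (-n)).app (ModuleCat.of k k))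
    obtain ⟨d⟩ := nonempty_lten_sg (-n) M
    let e2 : M⟦- -n⟧ ≅ sk k 0 := d.symm ≪≫ (c.app M).symm ≪≫ h
    exact ⟨(shiftNegShift M (-n)).symm ≪≫ (shiftFunctor (Dual.D k) (-n)).mapIso e2 ≪≫
      ((singleFunctors (ModuleCat.{u} k)).shiftIso (-n) n 0 (by simp)).app _⟩

end FieldMain

section Main

variable {A : Type u} [CommRing A] [IsLocalRing A] [IsNoetherianRing A]

theorem main (L : Dual.D A) (E : DRing.Cx A) [DRing.HasLTensorCx A E]
    (hLfin : ∀ i : ℤ, Module.Finite A (Dual.HD A L i))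
    (hLbdd : ∃ b : ℤ, ∀ i : ℤ, b < i → Subsingleton (Dual.HD A L i))
    (hEfin : ∀ i : ℤ, Module.Finite A (Dual.HD A (DRing.toD E) i))
    (hEbdd : ∃ b : ℤ, ∀ i : ℤ, b < i → Subsingleton (Dual.HD A (DRing.toD E) i))
    (h : Nonempty ((DRing.LTensorCx A E).obj L ≅ Dual.inD A A)) :
    ∃ n : ℤ, Nonempty (L ≅ (Dual.inD A A)⟦n⟧) ∧ Nonempty (DRing.toD E ≅ (Dual.inD A A)⟦(-n)⟧) := by
  obtain ⟨h⟩ := h
  let k := IsLocalRing.ResidueField A
  let φ : A →+* k := IsLocalRing.residue A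
  have hφ : Function.Surjective φ := IsLocalRing.residue_surjective
  have := LBC.hasLBaseChange φ
  obtain ⟨Y, hY, ⟨eY⟩⟩ := LTen.exists_kproj ((DRing.LBaseChange φ).obj (Q.obj E))
  have := LTen.hasLTensorCx Y
  obtain ⟨f⟩ := LTenBC.ltenBC_obj φ E Y eY L
  obtain ⟨m, ⟨e1⟩, ⟨e2⟩⟩ := field_case ((DRing.LBaseChange φ).obj L) Y
    (f.symm ≪≫ (DRing.LBaseChange φ).mapIso h ≪≫ LBC.lbcSelfIso φ 0)
  obtain ⟨b, hb⟩ := hLbdd
  obtain ⟨b', hb'⟩ := hEbdd
  have hL : L.IsLE b := by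
    rw [isLE_iff]
    intro i hi
    exact ModuleCat.isZero_iff_subsingleton.2 (hb i hi)
  have hE : (DRing.toD E).IsLE b' := by
    rw [isLE_iff]
    intro i hi
    exact ModuleCat.isZero_iff_subsingleton.2 (hb' i hi)
  obtain ⟨g⟩ := GorDesc.descend φ hφ L b m hLfin e1
  obtain ⟨g'⟩ := GorDesc.descend φ hφ (DRing.toD E) b' (-m) hEfin (eY.symm ≪≫ e2)
  refine ⟨-m, ⟨g ≪≫ (((singleFunctors (ModuleCat.{u} A)).shiftIso (-m) m 0 (by simp)).app _).symm⟩,
    ⟨g' ≪≫ (((singleFunctors (ModuleCat.{u} A)).shiftIso (- -m) (-m) 0 (by simp)).app _).symm⟩⟩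

end Main

end K174.TensInv
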