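import Groth.Agent.LoccohB.LBC2
import Groth.Agent.LoccohB.HomBC2
import Groth.Agent.LoccohB.DualShift
import Groth.Agent.Dual.K174.FinProj

/-!
# `- ⊗ᴸ P` for `P` finite projective

* `tenQ K : ModuleCat A ⥤ D(A)`, `M ↦ Q (K ⊗ M)`, additive and `A`-linear.
* `ltenQIso`: `LTensor A M (Q K) ≅ Q (K ⊗ M)` for `K` K-projective.
* `isDualizing_tenQ`: `K` a dualizing complex, `P` invertible, then `Q (K ⊗ P)` is dualizing.
* `bijective_tenQ`: `tenQ K` is fully faithful on finite projective modules if `A → End(K)` is bijective.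
-/

set_option autoImplicit false
universe w v u

open CategoryTheory CategoryTheory.Limits MonoidalCategory

attribute [local instance] HasDerivedCategory.standard

namespace K174.TensP

open DerivedCategory K174.FinProj Groth.Agent.LoccohB

variable {A : Type u} [CommRing A]

/-- `M ↦ K ⊗ M` as a functor to complexes. -/
noncomputable def tenCx (K : DRing.Cx A) : ModuleCat.{u} A ⥤ DRing.Cx A where
  obj M := ((tensorRight M).mapHomologicalComplex (ComplexShape.up ℤ)).obj K
  map f := (NatTrans.mapHomologicalComplex ((tensoringRight (ModuleCat.{u} A)).map f)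
    (ComplexShape.up ℤ)).app K
  map_id M := by
    ext i : 1
    simp
  map_comp f g := by
    ext i : 1
    simp

/-- `M ↦ Q (K ⊗ M)`. -/
noncomputable abbrev tenQ (K : DRing.Cx A) : ModuleCat.{u} A ⥤ Dual.D A := tenCx K ⋙ Q

lemma tenCx_map_f (K : DRing.Cx A) {M N : ModuleCat.{u} A} (f : M ⟶ N) (i : ℤ) :
    ((tenCx K).map f).f i = K.X i ◁ f := rfl

instance additive_tenCx (K : DRing.Cx A) : (tenCx K).Additive where
  map_add {M N f g} := by
    ext i : 1
    rw [HomologicalComplex.add_f_apply, tenCx_map_f, tenCx_map_f, tenCx_map_f]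
    exact MonoidalPreadditive.whiskerLeft_add (C := ModuleCat.{u} A) (X := K.X i) f g

instance linear_tenCx (K : DRing.Cx A) : (tenCx K).Linear A where
  map_smul f r := by
    ext i : 1
    rw [HomologicalComplex.smul_f_apply, tenCx_map_f, tenCx_map_f]
    exact MonoidalLinear.whiskerLeft_smul _ _ _

/-- The value at the ring itself. -/
noncomputable def tenCxSelf (K : DRing.Cx A) : (tenCx K).obj (ModuleCat.of A A) ≅ K :=
  (NatIso.mapHomologicalComplex (rightUnitorNatIso (ModuleCat.{u} A)) (ComplexShape.up ℤ) ≪≫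
    Functor.mapHomologicalComplexIdIso (ModuleCat.{u} A) (ComplexShape.up ℤ)).app K

/-- `LTensor A M (Q K) ≅ Q (K ⊗ M)` for `K` K-projective. -/
theorem nonempty_ltenQIso (K : DRing.Cx A) [K.IsKProjective] (M : ModuleCat.{u} A)
    [DRing.HasLTensor A M] : Nonempty ((DRing.LTensor A M).obj (Q.obj K) ≅ (tenQ K).obj M) := by
  have h := LBC.isIso_app A (F := DRing.tensorKh A M) (DRing.LTensor A M)
    ((DRing.tensorKh A M).totalLeftDerivedCounit Qh
      (HomotopyCategory.quasiIso (ModuleCat.{u} A) (ComplexShape.up ℤ))) K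
  refine ⟨(DRing.LTensor A M).mapIso ((quotientCompQhIso (ModuleCat.{u} A)).symm.app K) ≪≫
    asIso (((DRing.tensorKh A M).totalLeftDerivedCounit Qh
      (HomotopyCategory.quasiIso (ModuleCat.{u} A) (ComplexShape.up ℤ))).app
      ((HomotopyCategory.quotient _ _).obj K)) ≪≫ ?_⟩
  exact Qh.mapIso (((tensorRight M).mapHomotopyCategoryFactors (ComplexShape.up ℤ)).app K) ≪≫
    (quotientCompQhIso (ModuleCat.{u} A)).app _


lemma bijective_self (K : DRing.Cx A)
    (hK : Function.Bijective (fun a : A => a • 𝟙 (Q.obj K))) :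
    Function.Bijective (fun f : ModuleCat.of A A ⟶ ModuleCat.of A A => (tenQ K).map f) := by
  let e : Q.obj K ≅ (tenQ K).obj (ModuleCat.of A A) := Q.mapIso (tenCxSelf K).symm
  have h1 : Function.Bijective (fun a : A => a • 𝟙 ((tenQ K).obj (ModuleCat.of A A))) := by
    have h2 : (fun a : A => a • 𝟙 ((tenQ K).obj (ModuleCat.of A A))) =
        (Linear.homCongr A e e) ∘ (fun a : A => a • 𝟙 (Q.obj K)) := by
      ext a
      simp [Linear.homCongr]
    rw [h2]
    exact (Linear.homCongr A e e).bijective.comp hK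
  let f : A → (ModuleCat.of A A ⟶ ModuleCat.of A A) := fun a => a • 𝟙 _
  have hf : Function.Bijective f := by
    constructor
    · intro a b hab
      have := congrArg (fun g : ModuleCat.of A A ⟶ ModuleCat.of A A => g.hom (1 : A)) hab
      simpa [f] using this
    · intro g
      refine ⟨g.hom (1 : A), ?_⟩
      ext
      simp [f]
  rw [← Function.Bijective.of_comp_iff _ hf]
  convert h1 using 1
  ext a
  simp only [Function.comp_apply, f]
  rw [Functor.map_smul, CategoryTheory.Functor.map_id]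

/-- `tenQ K` is fully faithful on finite projective modules if `A → End(K)` is bijective. -/
theorem bijective_tenQ (K : DRing.Cx A) (hK : Function.Bijective (fun a : A => a • 𝟙 (Q.obj K)))
    {P P' : ModuleCat.{u} A} (hP : Gen P (ModuleCat.of A A)) (hP' : Gen P' (ModuleCat.of A A)) :
    Function.Bijective (fun f : P ⟶ P' => (tenQ K).map f) :=
  bijective_left (tenQ K) hP (bijective_right (tenQ K) hP' (bijective_self K hK))

/-- No maps of nonzero degree. -/
theorem subsingleton_tenQ (K : DRing.Cx A) (n : ℤ) (hK : Subsingleton (Q.obj K ⟶ (Q.obj K)⟦n⟧))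
    {P P' : ModuleCat.{u} A} (hP : Gen P (ModuleCat.of A A)) (hP' : Gen P' (ModuleCat.of A A)) :
    Subsingleton ((tenQ K).obj P ⟶ ((tenQ K).obj P')⟦n⟧) := by
  let e : Q.obj K ≅ (tenQ K).obj (ModuleCat.of A A) := Q.mapIso (tenCxSelf K).symm
  have h1 : Subsingleton ((tenQ K).obj (ModuleCat.of A A) ⟶
      ((tenQ K).obj (ModuleCat.of A A))⟦n⟧) :=
    (Linear.homCongr A e ((shiftFunctor _ n).mapIso e)).toEquiv.subsingleton_congr.1 hK
  have h2 : ∀ f : (tenQ K).obj P ⟶ ((tenQ K).obj P')⟦n⟧, f = 0 := by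
    refine Gen.eq_zero_left (hP.map (tenQ K)) fun g => ?_
    refine Gen.eq_zero_right ((hP'.map (tenQ K)).map (shiftFunctor (Dual.D A) n)) (fun g => ?_) g
    exact h1.elim _ _
  exact ⟨fun f g => by rw [h2 f, h2 g]⟩

/-- `Q (K ⊗ P)` is dualizing for `P` invertible and `Q K` dualizing. -/
theorem isDualizing_tenQ (K : DRing.Cx A) (hK : Dual.IsDualizing A (Q.obj K))
    (P : Type u) [AddCommGroup P] [Module A P] [Module.Invertible A P] :
    Dual.IsDualizing A ((tenQ K).obj (ModuleCat.of A P)) := by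
  have hP : Gen (ModuleCat.of A P) (ModuleCat.of A A) := gen_of_projective P
  let e : Q.obj K ≅ (tenQ K).obj (ModuleCat.of A A) := Q.mapIso (tenCxSelf K).symm
  have hA : Dual.IsDualizing A ((tenQ K).obj (ModuleCat.of A A)) := HomBC.isDualizing_of_iso e hK
  refine ⟨hK.isNoetherianRing, ?_, ?_, ?_, ?_⟩
  · obtain ⟨a, b, hab⟩ := hA.finite_injective_dimension
    refine ⟨a, b, fun M _ _ i hi => ?_⟩
    have h1 := hab M i hi
    have h2 : ∀ f : Dual.inD A M ⟶ ((tenQ K).obj (ModuleCat.of A P))⟦i⟧, f = 0 :=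
      Gen.eq_zero_right ((hP.map (tenQ K)).map (shiftFunctor (Dual.D A) i))
        fun g => h1.elim _ _
    exact ⟨fun f g => by rw [h2 f, h2 g]⟩
  · intro i
    have h1 := hA.finite_cohomology i
    obtain ⟨n, π, ι, h⟩ := (hP.map (tenQ K)).map (homologyFunctor (ModuleCat.{u} A) i)
    let f : (Fin n → Dual.HD A ((tenQ K).obj (ModuleCat.of A A)) i) →ₗ[A]
        Dual.HD A ((tenQ K).obj (ModuleCat.of A P)) i :=
      LinearMap.lsum A _ A (fun j => (ι j).hom)
    refine Module.Finite.of_surjective f fun x => ?_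
    refine ⟨fun j => (π j).hom x, ?_⟩
    have h2 := congrArg (fun g => g.hom x) h
    simpa [f, LinearMap.lsum_apply] using h2
  · have h1 := bijective_tenQ K hK.toEnd_bijective hP hP
    have h2 : Function.Bijective (fun a : A => a • 𝟙 (ModuleCat.of A P)) := by
      have h3 := Module.Invertible.toModuleEnd_bijective A P
      have h4 : (fun a : A => a • 𝟙 (ModuleCat.of A P)) =
          (ModuleCat.homEquiv (M := ModuleCat.of A P) (N := ModuleCat.of A P)).symm ∘
            (fun a => Module.toModuleEnd A (S := A) P a) := by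
        ext a
        rfl
      rw [h4]
      exact (Equiv.bijective _).comp h3
    convert h1.comp h2 using 1
    ext a
    simp only [Function.comp_apply]
    rw [Functor.map_smul, CategoryTheory.Functor.map_id]
  · intro i hi
    exact subsingleton_tenQ K i (hK.ext_self_subsingleton i hi) hP hP

/-- Every object of `D(A)` is represented by a K-projective complex. -/
theorem exists_rep (ω : Dual.D A) : ∃ (K : DRing.Cx A) (_ : K.IsKProjective),
    Nonempty (Q.obj K ≅ ω) := by
  obtain ⟨P, p, hP, hp, -, -⟩ := KProj.exists_kprojective (Q.objPreimage ω)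
  exact ⟨P, hP, ⟨asIso (Q.map p) ≪≫ Q.objObjPreimageIso ω⟩⟩

/-- `Q (K ⊗ P)` determines `P` up to isomorphism. -/
theorem nonempty_linearEquiv (K : DRing.Cx A)
    (hK : Function.Bijective (fun a : A => a • 𝟙 (Q.obj K)))
    (P P' : Type u) [AddCommGroup P] [Module A P] [AddCommGroup P'] [Module A P']
    (hP : Gen (ModuleCat.of A P) (ModuleCat.of A A))
    (hP' : Gen (ModuleCat.of A P') (ModuleCat.of A A))
    (e : (tenQ K).obj (ModuleCat.of A P) ≅ (tenQ K).obj (ModuleCat.of A P')) :
    Nonempty (P ≃ₗ[A] P') := by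
  obtain ⟨f, hf⟩ := (bijective_tenQ K hK hP hP').2 e.hom
  obtain ⟨g, hg⟩ := (bijective_tenQ K hK hP' hP).2 e.inv
  change (tenQ K).map f = _ at hf
  change (tenQ K).map g = _ at hg
  refine ⟨Iso.toLinearEquiv (⟨f, g, ?_, ?_⟩ : ModuleCat.of A P ≅ ModuleCat.of A P')⟩
  · apply (bijective_tenQ K hK hP hP).1
    change (tenQ K).map _ = (tenQ K).map _
    rw [Functor.map_comp, hf, hg, e.hom_inv_id, CategoryTheory.Functor.map_id]
  · apply (bijective_tenQ K hK hP' hP').1
    change (tenQ K).map _ = (tenQ K).map _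
    rw [Functor.map_comp, hf, hg, e.inv_hom_id, CategoryTheory.Functor.map_id]

/-- Uniqueness of the twist and of the shift. -/
theorem unique_twist [Nontrivial A] (K : DRing.Cx A) (hK : Dual.IsDualizing A (Q.obj K))
    (P P' : Type u) [AddCommGroup P] [Module A P] [Module.Invertible A P] [AddCommGroup P']
    [Module A P'] [Module.Invertible A P'] (n n' : ℤ)
    (e : ((tenQ K).obj (ModuleCat.of A P))⟦n⟧ ≅ ((tenQ K).obj (ModuleCat.of A P'))⟦n'⟧) :
    n = n' ∧ Nonempty (P ≃ₗ[A] P') := by
  have hP : Gen (ModuleCat.of A P) (ModuleCat.of A A) := gen_of_projective P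
  have hP' : Gen (ModuleCat.of A P') (ModuleCat.of A A) := gen_of_projective P'
  let e' : (tenQ K).obj (ModuleCat.of A P) ≅ ((tenQ K).obj (ModuleCat.of A P'))⟦n' - n⟧ :=
    (shiftShiftNeg _ n).symm ≪≫ (shiftFunctor _ (-n)).mapIso e ≪≫
      ((shiftFunctorAdd' (Dual.D A) n' (-n) (n' - n) (by lia)).app _).symm
  have hn : n = n' := by
    by_contra hne
    have h1 := subsingleton_tenQ K (n' - n) (hK.ext_self_subsingleton _ (by lia)) hP hP'
    have h2 : 𝟙 ((tenQ K).obj (ModuleCat.of A P)) = 0 := by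
      rw [← e'.hom_inv_id, h1.elim e'.hom 0, zero_comp]
    have h3 := (isDualizing_tenQ K hK P).toEnd_bijective.1
    have h4 : (1 : A) = 0 := h3 (by simp only [h2, smul_zero])
    exact one_ne_zero h4
  subst hn
  refine ⟨rfl, nonempty_linearEquiv K hK.toEnd_bijective P P' hP hP'
    (e' ≪≫ (shiftFunctorZero' (Dual.D A) (n - n) (by lia)).app _)⟩

end K174.TensP
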