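import Groth.Agent.QCohCat.K658.Abel
import Groth.Agent.Canon.K769.Basic
import Groth.Agent.LoccohA.TDColim
import Groth.Agent.Sga4B.AdjRep
import Groth.Agent.CohqB.HSeqMod

/-!
# The top cohomology functor on quasi-coherent modules is a left adjoint

`A` a ring, `X` a qcqs scheme over `Spec A`.
* `HF A X n : QCoh X ⥤ ModuleCat A`, `F ↦ H^n(X, F)`;
* `preservesFiltered`: it commutes with filtered colimits;
* `preservesFiniteColimits`: it is right exact if `H^{n+1}(X, -) = 0` on quasi-coherent modules;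
* `exists_isRDualOver`: in that case there is a dualizing pair `(ω, tr)` in degree `n`.
-/

set_option autoImplicit false
set_option maxHeartbeats 400000
universe u
open CategoryTheory CategoryTheory.Limits AlgebraicGeometry Opposite

namespace K174.TopH

open Groth.Agent.CohqB.HSeqMod

variable (A : Type u) [CommRing A] (X : Scheme.{u}) [X.Over (Spec (CommRingCat.of A))]

/-- `F ↦ H^n(X, F)` on quasi-coherent modules. -/
noncomputable def HF (n : ℕ) : QCohCat.QCoh X ⥤ ModuleCat.{u} A where
  obj F := ModuleCat.of A (Coh.HH X F.obj n)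
  map φ := ModuleCat.ofHom (Canon.HHlin A φ.hom n)
  map_id F := by
    ext1
    exact K769.Basic.HHlin_id A F.obj n
  map_comp φ ψ := by
    ext1
    exact K769.Basic.HHlin_comp A φ.hom ψ.hom n

lemma HF_map_apply (n : ℕ) {F G : QCohCat.QCoh X} (φ : F ⟶ G) (x : Coh.HH X F.obj n) :
    ((HF A X n).map φ).hom x = hmap φ.hom n x := rfl

instance additive (n : ℕ) : (HF A X n).Additive where
  map_add {F G φ ψ} := by
    ext x
    exact hmap_add_apply φ.hom ψ.hom n x

/-- `H^n` of abelian sheaves. -/
noncomputable def EF (n : ℕ) : TopCat.Sheaf AddCommGrpCat.{u} X ⥤ AddCommGrpCat.{u} :=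
  Abelian.extFunctorObj.{u}
    ((constantSheaf (Opens.grothendieckTopology X) AddCommGrpCat.{u}).obj
      (AddCommGrpCat.of (ULift ℤ))) n

/-- forgetting the module structure. -/
noncomputable def forgetIso (n : ℕ) :
    HF A X n ⋙ forget₂ (ModuleCat.{u} A) AddCommGrpCat.{u} ≅
      (QCohCat.isQCoh X).ι ⋙ Groth.Agent.CohqB.DevSupport.toAbF X ⋙ EF X n :=
  NatIso.ofComponents (fun _ => Iso.refl _) (fun {F G} φ => by
    ext x
    rfl)

theorem preservesFiltered [CompactSpace X] [QuasiSeparatedSpace X] (n : ℕ) (J : Type u)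
    [SmallCategory J] [IsFiltered J] : PreservesColimitsOfShape J (HF A X n) := by
  have h0 : PrespectralSpace X := inferInstance
  have h0' : PrespectralSpace X.toTopCat := h0
  have h0a : QuasiSeparatedSpace X.toTopCat := inferInstanceAs (QuasiSeparatedSpace X)
  have h0b : CompactSpace X.toTopCat := inferInstanceAs (CompactSpace X)
  have h1 : PreservesColimitsOfShape J (EF X n) :=
    Groth.Agent.LoccohA.TDColim.preserves_ext (T := X.toTopCat) J n
  have h2 : PreservesColimitsOfShape J (Groth.Agent.CohqB.DevSupport.toAbF X) := inferInstance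
  have h3 : PreservesColimitsOfShape J (QCohCat.isQCoh X).ι := inferInstance
  have h4 : PreservesColimitsOfShape J (Groth.Agent.CohqB.DevSupport.toAbF X ⋙ EF X n) :=
    comp_preservesColimitsOfShape _ _
  have h5 : PreservesColimitsOfShape J ((QCohCat.isQCoh X).ι ⋙
      Groth.Agent.CohqB.DevSupport.toAbF X ⋙ EF X n) := comp_preservesColimitsOfShape _ _
  have h6 : PreservesColimitsOfShape J (HF A X n ⋙ forget₂ (ModuleCat.{u} A) AddCommGrpCat.{u}) :=
    preservesColimitsOfShape_of_natIso (forgetIso A X n).symm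
  exact preservesColimitsOfShape_of_reflects_of_preserves (HF A X n)
    (forget₂ (ModuleCat.{u} A) AddCommGrpCat.{u})

theorem preservesFiniteColimits (n : ℕ)
    (hv : ∀ F : X.Modules, Coh.IsQCoh F → Subsingleton (Coh.HH X F (n + 1))) :
    PreservesFiniteColimits (HF A X n) := by
  rw [Functor.preservesFiniteColimits_iff_forall_exact_map_and_epi]
  intro S hS
  have hS' : (S.map (QCohCat.isQCoh X).ι).ShortExact := hS.map_of_exact _
  constructor
  · rw [ShortComplex.moduleCat_exact_iff]
    intro x hx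
    exact exact₂ hS' n x hx
  · rw [ModuleCat.epi_iff_surjective]
    intro x
    have h : Subsingleton (Coh.HH X (S.map (QCohCat.isQCoh X).ι).X₁ (n + 1)) :=
      hv S.X₁.obj S.X₁.property
    exact exact₃ hS' n x (h.elim _ _)

theorem isLeftAdjoint [CompactSpace X] [QuasiSeparatedSpace X] (n : ℕ)
    (hv : ∀ F : X.Modules, Coh.IsQCoh F → Subsingleton (Coh.HH X F (n + 1))) :
    (HF A X n).IsLeftAdjoint := by
  have := preservesFiniteColimits A X n hv
  exact Groth.Agent.Sga4B.AdjRep.isLeftAdjoint (HF A X n) fun I _ _ => preservesFiltered A X n I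

/-- Existence of the dualizing pair with values in any module `G`. -/
theorem exists_pair [CompactSpace X] [QuasiSeparatedSpace X] (n : ℕ)
    (hv : ∀ F : X.Modules, Coh.IsQCoh F → Subsingleton (Coh.HH X F (n + 1)))
    (G : Type u) [AddCommGroup G] [Module A G] :
    ∃ (ω : X.Modules) (tr : Coh.HH X ω n →ₗ[A] G), Coh.IsQCoh ω ∧ ∀ F : X.Modules, Coh.IsQCoh F →
      Function.Bijective (fun φ : F ⟶ ω => tr ∘ₗ Canon.HHlin A φ n) := by
  have := isLeftAdjoint A X n hv
  let adj := Adjunction.ofIsLeftAdjoint (HF A X n)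
  let W := (HF A X n).rightAdjoint.obj (ModuleCat.of A G)
  refine ⟨W.obj, (adj.counit.app (ModuleCat.of A G)).hom, W.property, fun F hF => ?_⟩
  let F' : QCohCat.QCoh X := ⟨F, hF⟩
  have h := (adj.homEquiv F' (ModuleCat.of A G)).symm.bijective
  have key : ∀ φ : F' ⟶ W, (adj.homEquiv F' (ModuleCat.of A G)).symm φ =
      ModuleCat.ofHom ((adj.counit.app (ModuleCat.of A G)).hom ∘ₗ Canon.HHlin A φ.hom n) := by
    intro φ
    rw [Adjunction.homEquiv_counit]
    rfl
  constructor
  · intro φ ψ e
    have e1 : (ObjectProperty.homMk φ : F' ⟶ W) = ObjectProperty.homMk ψ := by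
      apply h.1
      rw [key, key]
      exact congrArg ModuleCat.ofHom e
    exact congrArg (fun t : F' ⟶ W => t.hom) e1
  · intro g
    obtain ⟨φ, hφ⟩ := h.2 (ModuleCat.ofHom g : (HF A X n).obj F' ⟶ ModuleCat.of A G)
    refine ⟨φ.hom, ?_⟩
    rw [key] at hφ
    exact congrArg ModuleCat.Hom.hom hφ

theorem exists_isRDualOver [CompactSpace X] [QuasiSeparatedSpace X] (n : ℕ)
    (hv : ∀ F : X.Modules, Coh.IsQCoh F → Subsingleton (Coh.HH X F (n + 1))) :
    ∃ (ω : X.Modules) (tr : Coh.HH X ω n →ₗ[A] A), Canon.IsRDualOver A X n ω tr := by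
  obtain ⟨ω, tr, h1, h2⟩ := exists_pair A X n hv A
  exact ⟨ω, tr, h1, h2⟩

end K174.TopH
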