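import Groth.Agent.Dual.K174.SymHom
import Groth.Agent.DRing.K228.ToSingle
import Groth.Agent.LoccohB.FlatDual

/-!
# Finite Tor-dimension of `G` and finite injective dimension of `RHom(G, ω)`

* `isPerfect_of_hom_vanishing`: over a Noetherian ring, `K` bounded above with finite cohomology is perfect if
  `Hom(K, N[j]) = 0` for all finite `N` and `j` large.
* `main`: `G` bounded with finite cohomology has finite Tor-dimension iff `RHom(G, ω)` has finite injective
  dimension.
-/

set_option autoImplicit false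
universe u

open CategoryTheory CategoryTheory.Limits Pretriangulated

attribute [local instance] HasDerivedCategory.standard

namespace K174.TorInj

open DerivedCategory Groth.Agent.LoccohB Groth.Agent.LoccohB.LTen K228.ToSingle K174.SymHom

variable {A : Type u} [CommRing A]

/-- If `Hom(E, N[-i]) = 0` for `N` the opcycles of `E`, then `opcycles → E.X (i + 1)` is split. -/
theorem exists_retraction (E : DRing.Cx A) [E.IsKProjective] (i : ℤ)
    (h : Subsingleton (DRing.toD E ⟶ (Dual.inD A (E.opcycles i))⟦-i⟧)) :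
    ∃ r : E.X (i + 1) →ₗ[A] E.opcycles i, r ∘ₗ (E.fromOpcycles i (i + 1)).hom = LinearMap.id := by
  have h1 : Q.map (toOp E i) = Q.map 0 := by
    rw [← cancel_mono (singleShiftIso (E.opcycles i) i).hom]
    exact h.elim _ _
  obtain ⟨H⟩ := KDer.homotopy_of_Q_map_eq_of_isKProjective h1
  have h2 := H.comm i
  rw [dNext_eq _ (show (ComplexShape.up ℤ).Rel i (i + 1) by simp),
    prevD_eq _ (show (ComplexShape.up ℤ).Rel (i - 1) i by simp)] at h2
  rw [HomologicalComplex.single_obj_d, comp_zero, add_zero, HomologicalComplex.zero_f, add_zero,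
    ← E.p_fromOpcycles i (i + 1), Category.assoc] at h2
  have h3 : (toOp E i).f i = E.pOpcycles i ≫
      (HomologicalComplex.singleObjXSelf (ComplexShape.up ℤ) i (E.opcycles i)).inv := by
    simp [toOp]
  rw [h3, cancel_epi] at h2
  refine ⟨(H.hom (i + 1) i ≫
    (HomologicalComplex.singleObjXSelf (ComplexShape.up ℤ) i (E.opcycles i)).hom).hom, ?_⟩
  have h4 : E.fromOpcycles i (i + 1) ≫ H.hom (i + 1) i ≫
      (HomologicalComplex.singleObjXSelf (ComplexShape.up ℤ) i (E.opcycles i)).hom = 𝟙 _ := by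
    rw [← Category.assoc, ← h2, Iso.inv_hom_id]
  exact congrArg ModuleCat.Hom.hom h4

/-- perfectness from the vanishing of maps to finite modules. -/
theorem isPerfect_of_hom_vanishing {K : Dual.D A} (hK : DRing.IsPseudoCoherent' A K) (a : ℤ)
    (h : ∀ (N : Type u) [AddCommGroup N] [Module A N] [Module.Finite A N] (j : ℤ), a < j →
      Subsingleton (K ⟶ (Dual.inD A N)⟦j⟧)) : DRing.IsPerfect A K := by
  refine K228.TorPerf.isPerfect_of_retraction hK (-a) fun E hE hE' ⟨e⟩ i hi => ?_
  have h1 := (hE i).1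
  have h2 : Module.Finite A (E.opcycles i) := Module.Finite.of_surjective (E.pOpcycles i).hom
      ((ModuleCat.epi_iff_surjective _).1 inferInstance)
  refine exists_retraction E i ?_
  have h3 := h (E.opcycles i) (-i) (by omega)
  exact (e.homCongr (Iso.refl _)).subsingleton_congr.2 h3

theorem main [IsNoetherianRing A] (ω : Dual.D A) (hω : Dual.IsDualizing A ω) (G : DRing.Cx A)
    [DRing.HasRHomCx G] (hfin : ∀ i : ℤ, Module.Finite A (Dual.HD A (DRing.toD G) i))
    (hbdd : ∃ b : ℤ, ∀ i : ℤ, b < i → Subsingleton (Dual.HD A (DRing.toD G) i)) :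
    DRing.HasFiniteTorDimCx A (DRing.toD G) ↔
      DRing.HasFiniteInjDim A ((DRing.RHomCx G).obj ω) := by
  obtain ⟨b₀, hb₀⟩ := hbdd
  have hpc : DRing.IsPseudoCoherent' A (DRing.toD G) :=
    PCNoeth.isPseudoCoherent'_of_noetherian' _ b₀ hb₀ hfin
  obtain ⟨a, b, hab⟩ := hω.finite_injective_dimension
  have key : ∀ (M : Type u) [AddCommGroup M] [Module A M] (X : DRing.Cx A) [DRing.HasRHomCx X]
      (_ : DRing.toD X ≅ Dual.inD A M), ((DRing.RHomCx X).obj ω).IsGE a ∧
        ((DRing.RHomCx X).obj ω).IsLE b := by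
    intro M _ _ X _ eX
    constructor
    · refine isGE_rhom X ω a fun i hi => ?_
      exact (eX.homCongr (Iso.refl _)).subsingleton_congr.2 (hab M i (Or.inl hi))
    · refine isLE_rhom X ω b fun i hi => ?_
      exact (eX.homCongr (Iso.refl _)).subsingleton_congr.2 (hab M i (Or.inr hi))
  constructor
  · intro h
    obtain ⟨P, c, d, hP0, hP, ⟨eP⟩⟩ := K227.PerfFlat.isPerfect_iff.2 ⟨hpc, h⟩
    have hPK : P.IsKProjective := Groth.Agent.PerfC.RingPerf.isKProjective
      (fun i hi => hP0 i (Or.inr hi)) fun i => (hP i).2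
    rw [K174.Basic.hasFiniteInjDim_iff]
    refine ⟨a - d, b - c, fun M _ _ i hi => ?_⟩
    obtain ⟨X, ⟨eX⟩⟩ := exists_rep_inD (Dual.inD A M)
    have := RHomVal.hasRHomCx X
    obtain ⟨e⟩ := nonempty_hom_symm_shift X G ω i
    obtain ⟨h1, h2⟩ := key M X eX
    refine (eX.homCongr (Iso.refl _)).subsingleton_congr.1 (e.subsingleton_congr.2 ?_)
    refine (eP.homCongr (Iso.refl _)).subsingleton_congr.1 ?_
    rcases hi with hi | hi
    · have h3 : (((DRing.RHomCx X).obj ω)⟦i⟧).IsGE (a - i) :=
        TStructure.t.isGE_shift _ a i (a - i) (by omega)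
      have h4 : (DRing.toD P).IsLE d := by
        refine K228.Basic.isLE_of_subsingleton _ _ fun j hj => ?_
        exact K228.TorPerf.isZero_hd_of_vanishes P (Iso.refl _) j (hP0 j (Or.inr hj))
      have h5 : ∀ f : DRing.toD P ⟶ ((DRing.RHomCx X).obj ω)⟦i⟧, f = 0 := fun f =>
        TStructure.t.zero f d (a - i) (by omega)
      exact ⟨fun f g => by rw [h5 f, h5 g]⟩
    · have h3 : (((DRing.RHomCx X).obj ω)⟦i⟧).IsLE (b - i) :=
        TStructure.t.isLE_shift _ b i (b - i) (by omega)
      exact subsingleton_of_proj P c (fun j hj => hP0 j (Or.inl hj)) _ (b - i) (by omega)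
  · rintro ⟨c, d, J, hJ0, hJ, ⟨eJ⟩⟩
    apply (K227.PerfFlat.isPerfect_iff.1 ?_).2
    have hJK : J.IsKInjective := by
      have : J.IsStrictlyGE c := (CochainComplex.isStrictlyGE_iff _ _).2 fun i hi => hJ0 i (Or.inl hi)
      have : ∀ i, Injective (J.X i) := fun i => by
        have := hJ i
        exact Module.injective_object_of_injective_module A (J.X i)
      exact CochainComplex.isKInjective_of_injective J c
    refine isPerfect_of_hom_vanishing hpc (d - a) fun N _ _ _ j hj => ?_
    obtain ⟨X, ⟨eX⟩⟩ := exists_rep_inD (Dual.inD A N)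
    have := RHomVal.hasRHomCx X
    obtain ⟨h1, h2⟩ := key N X eX
    obtain ⟨N', ⟨eN'⟩⟩ := exists_rep_inD ((DRing.RHomCx X).obj ω)
    have := RHomVal.hasRHomCx N'
    have hXfin : ∀ i : ℤ, Module.Finite A (Dual.HD A (DRing.toD X) i) := fun i => by
      have := FlatDual.finite_HD_inD (A := A) N i
      exact Module.Finite.equiv ((DerivedCategory.homologyFunctor (ModuleCat.{u} A) i).mapIso
        eX.symm).toLinearEquiv
    obtain ⟨e1⟩ := (Groth.Agent.S1819.result A ω hω X hXfin).2 N' ⟨eN'⟩
    obtain ⟨e2⟩ := nonempty_hom_symm_shift N' G ω j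
    have h3 : Subsingleton (DRing.toD N' ⟶ ((DRing.RHomCx G).obj ω)⟦j⟧) := by
      obtain ⟨J', hJ'⟩ : ∃ J' : DRing.Cx A, J' = J⟦j⟧ := ⟨_, rfl⟩
      have hJK' : J'.IsKInjective := by rw [hJ']; infer_instance
      have e3 : Q.obj J' ≅ ((DRing.RHomCx G).obj ω)⟦j⟧ := by
        rw [hJ']
        exact (Q.commShiftIso j).app J ≪≫ (shiftFunctor (Dual.D A) j).mapIso eJ
      have h4 : (DRing.toD N').IsGE a := TStructure.t.isGE_of_iso eN'.symm a
      have h5 := subsingleton_of_inj J' (d - j) (fun i hi => by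
        rw [hJ']
        exact hJ0 (i + j) (Or.inr (by omega))) (DRing.toD N') a (by omega)
      exact ((Iso.refl _).homCongr e3).subsingleton_congr.1 h5
    refine (((Iso.refl _).homCongr ((shiftFunctor (Dual.D A) j).mapIso (e1 ≪≫ eX)))).subsingleton_congr.1 ?_
    exact e2.subsingleton_congr.1 h3

end K174.TorInj
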