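import Groth.Agent.Dual.K174.Refl
import Groth.Agent.Dual.H345.HomBCY
import Groth.Agent.Ega1.ADualUniv
import Groth.Agent.PerfB.ModBC
import Groth.Agent.PerfA.TildeSupp

/-!
# Grothendieck duality and linear forms on global sections, over an affine base

`f : X ⟶ Spec A`, `τ : Rf_* M ⟶ O` universal (`M = a(O)`), `K ∈ D_QCoh(X)` with `Rf_* K` in degrees `≤ 0`.
* `endEquiv A : A ≃+ End(O_{Spec A})`;
* `isRefl_spec`: for `L ∈ D_QCoh(Spec A)` in degrees `≤ 0` maps `L ⟶ O` are linear forms on `Hom(O, L)`;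
* `eta f : O_Y ⟶ Rf_* O_X`;
* `existsUnique_hom`: `Hom(K, M)` is the set of `A`-linear forms on `Hom(O_X, K)`.
-/

set_option autoImplicit false
universe u
open CategoryTheory CategoryTheory.Limits AlgebraicGeometry
attribute [local instance] HasDerivedCategory.standard

namespace K174.TraceA

open Groth.Agent Groth.Agent.Dual.H345.HomBCX Groth.Agent.Ega1.ADualUniv K174.Refl

/-- The structure sheaf in degree zero. -/
noncomputable abbrev P (X : Scheme.{u}) : DCoh.D X := DCoh.inD X (Coh.structureModule X)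

section Spec

variable (A : Type u) [CommRing A]

/-- `R~ = O`. -/
noncomputable def isoPR (R : CommRingCat.{u}) [PreservesFiniteLimits (tilde.functor R)] :
    (DCoh.tildeD R).obj ((DerivedCategory.singleFunctor (ModuleCat.{u} R) 0).obj (ModuleCat.of R R)) ≅
    P (Spec R) :=
  ((tilde.functor R).mapDerivedCategorySingleFunctor 0).app _ ≪≫
    (DerivedCategory.singleFunctor (Spec R).Modules 0).mapIso (tildeSelf (R := R))

/-- `A~ = O`. -/
noncomputable def isoP : (DCoh.tildeD (CommRingCat.of A)).obj (Dual.inD A A) ≅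
    P (Spec (CommRingCat.of A)) := isoPR (CommRingCat.of A)

instance full_tildeD : (DCoh.tildeD (CommRingCat.of A)).Full :=
  (S0997.result (CommRingCat.of A)).1

instance faithful_tildeD : (DCoh.tildeD (CommRingCat.of A)).Faithful :=
  (S0997.result (CommRingCat.of A)).2.1

instance additive_tildeD : (DCoh.tildeD (CommRingCat.of A)).Additive := inferInstance

theorem exists_smul (φ : Dual.inD A A ⟶ Dual.inD A A) : ∃ a : A, a • 𝟙 _ = φ := by
  obtain ⟨ψ, rfl⟩ := (DerivedCategory.singleFunctor (ModuleCat.{u} A) 0).map_surjective φ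
  refine ⟨ψ.hom (1 : A), ?_⟩
  have h : ψ = (ψ.hom (1 : A) : A) • 𝟙 (ModuleCat.of A A) := by
    refine hom_eq A ?_
    change _ = (ψ.hom (1 : A) : A) • (1 : A)
    rw [smul_eq_mul, mul_one]
  conv_rhs => rw [h, Functor.map_smul, CategoryTheory.Functor.map_id]

theorem smul_injective {a b : A} (h : a • 𝟙 (Dual.inD A A) = b • 𝟙 (Dual.inD A A)) : a = b := by
  have h1 : (DerivedCategory.singleFunctor (ModuleCat.{u} A) 0).map (a • 𝟙 (ModuleCat.of A A)) =
      (DerivedCategory.singleFunctor (ModuleCat.{u} A) 0).map (b • 𝟙 (ModuleCat.of A A)) := by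
    rw [Functor.map_smul, Functor.map_smul, CategoryTheory.Functor.map_id]
    exact h
  have h2 := (DerivedCategory.singleFunctor (ModuleCat.{u} A) 0).map_injective h1
  have h3 := congrArg (fun t => t.hom (1 : A)) h2
  have h4 : a • (1 : A) = b • (1 : A) := h3
  simpa using h4

theorem smul_P_eq (a : A) : rho (𝟙 (Spec (CommRingCat.of A))) a • 𝟙 (P (Spec (CommRingCat.of A))) =
    (isoP A).inv ≫ (DCoh.tildeD (CommRingCat.of A)).map (a • 𝟙 (Dual.inD A A)) ≫ (isoP A).hom := by
  rw [smul_tildeD, CategoryTheory.Functor.map_id, Linear.smul_comp, Category.id_comp,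
    Linear.comp_smul, Iso.inv_hom_id]

/-- `A = End(O_{Spec A})`. -/
noncomputable def endEquiv : A ≃+ (P (Spec (CommRingCat.of A)) ⟶ P (Spec (CommRingCat.of A))) :=
  AddEquiv.ofBijective
    ({ toFun := fun a => rho (𝟙 (Spec (CommRingCat.of A))) a • 𝟙 (P (Spec (CommRingCat.of A)))
       map_zero' := by rw [map_zero, zero_smul]
       map_add' := fun a b => by rw [map_add, add_smul] } :
      A →+ (P (Spec (CommRingCat.of A)) ⟶ P (Spec (CommRingCat.of A)))) (by
    constructor
    · intro a b h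
      change rho (𝟙 (Spec (CommRingCat.of A))) a • 𝟙 (P (Spec (CommRingCat.of A))) =
        rho (𝟙 (Spec (CommRingCat.of A))) b • 𝟙 (P (Spec (CommRingCat.of A))) at h
      rw [smul_P_eq, smul_P_eq, cancel_epi, cancel_mono] at h
      exact smul_injective A ((DCoh.tildeD (CommRingCat.of A)).map_injective h)
    · intro e
      obtain ⟨φ, hφ⟩ := (DCoh.tildeD (CommRingCat.of A)).map_surjective
        ((isoP A).hom ≫ e ≫ (isoP A).inv)
      obtain ⟨a, rfl⟩ := exists_smul A φ
      refine ⟨a, ?_⟩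
      change rho (𝟙 (Spec (CommRingCat.of A))) a • 𝟙 (P (Spec (CommRingCat.of A))) = e
      rw [smul_P_eq, hφ]
      simp)

theorem endEquiv_apply (a : A) : endEquiv A a =
    rho (𝟙 (Spec (CommRingCat.of A))) a • 𝟙 (P (Spec (CommRingCat.of A))) := rfl

theorem isLE_of_tildeD (R : CommRingCat.{u}) [PreservesFiniteLimits (tilde.functor R)]
    (K : DerivedCategory (ModuleCat.{u} R)) (n : ℤ) (h : ((DCoh.tildeD R).obj K).IsLE n) :
    K.IsLE n := by
  rw [DerivedCategory.isLE_iff]
  intro i hi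
  have h1 := (DerivedCategory.isLE_iff ((DCoh.tildeD R).obj K) n).1 h i hi
  have e := (Groth.Agent.LoccohB.DBase.mapDerivedCategoryHomologyIso (tilde.functor R) i).app K
  have h2 : IsZero ((tilde.functor R).obj ((DerivedCategory.homologyFunctor _ i).obj K)) :=
    h1.of_iso e.symm
  rw [IsZero.iff_id_eq_zero] at h2 ⊢
  apply (tilde.functor R).map_injective
  rw [CategoryTheory.Functor.map_id, h2, Functor.map_zero]

theorem isRefl_spec (L : DCoh.D (Spec (CommRingCat.of A))) (hL : DCoh.IsQCohD L) (hLE : L.IsLE 0) :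
    IsRefl (P (Spec (CommRingCat.of A))) L (P (Spec (CommRingCat.of A))) := by
  obtain ⟨-, -, hess⟩ := S0997.result (CommRingCat.of A)
  obtain ⟨L₀, ⟨e⟩⟩ := (hess L).1 hL
  have h0 : L₀.IsLE 0 := by
    refine isLE_of_tildeD (CommRingCat.of A) L₀ 0 ?_
    exact (DerivedCategory.TStructure.t (C := (Spec (CommRingCat.of A)).Modules)).isLE_of_iso e.symm 0
  exact ((isRefl_of_isLE A L₀ (ModuleCat.of A A)).map (DCoh.tildeD (CommRingCat.of A))).of_iso
    (isoP A) e (isoP A)

end Spec

section Push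

attribute [local instance] Groth.Agent.PerfB.BCSch.hasLpull Groth.Agent.Dcoh.DerSch.hasRpush

variable {A : Type u} [CommRing A] {X : Scheme.{u}} (f : X ⟶ Spec (CommRingCat.of A))

/-- The unit `O_Y ⟶ Rf_* O_X`. -/
noncomputable def eta : P (Spec (CommRingCat.of A)) ⟶ (DCoh.Rpush f).obj (P X) :=
  (Groth.Agent.PerfB.BCShift.lAdj f).homEquiv _ _ (Groth.Agent.PerfB.ModBC.lpullInD f).hom

theorem eta_comp {K : DCoh.D X} (s : P X ⟶ K) : eta f ≫ (DCoh.Rpush f).map s =
    (Groth.Agent.PerfB.BCShift.lAdj f).homEquiv _ _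
      ((Groth.Agent.PerfB.ModBC.lpullInD f).hom ≫ s) :=
  (Adjunction.homEquiv_naturality_right _ _ _).symm

theorem eta_bijective (K : DCoh.D X) :
    Function.Bijective (fun s : P X ⟶ K => eta f ≫ (DCoh.Rpush f).map s) := by
  have h1 : Function.Bijective (fun s : P X ⟶ K =>
      (Groth.Agent.PerfB.BCShift.lAdj f).homEquiv _ _
        ((Groth.Agent.PerfB.ModBC.lpullInD f).hom ≫ s)) :=
    ((Groth.Agent.PerfB.BCShift.lAdj f).homEquiv _ _).bijective.comp
      (Groth.Agent.PerfB.ModBC.lpullInD f).symm.homFromEquiv.bijective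
  convert h1 using 2 with s
  exact eta_comp f s

theorem eta_smul {K : DCoh.D X} (a : A) (s : P X ⟶ K) :
    eta f ≫ (DCoh.Rpush f).map (rho f a • s) =
      rho (𝟙 (Spec (CommRingCat.of A))) a • (eta f ≫ (DCoh.Rpush f).map s) := by
  rw [smul_rpush f f (𝟙 _) (Category.comp_id f) a s, Linear.comp_smul]

instance additive_rpush' : (DCoh.Rpush f).Additive := additive_rpush f

/-- `Hom(O_X, K) = Hom(O_Y, Rf_* K)`. -/
noncomputable def etaEquiv (K : DCoh.D X) :
    (P X ⟶ K) ≃+ (P (Spec (CommRingCat.of A)) ⟶ (DCoh.Rpush f).obj K) :=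
  AddEquiv.ofBijective
    ({ toFun := fun s => eta f ≫ (DCoh.Rpush f).map s
       map_zero' := by rw [Functor.map_zero, comp_zero]
       map_add' := fun s t => by rw [Functor.map_add, Preadditive.comp_add] } :
      (P X ⟶ K) →+ (P (Spec (CommRingCat.of A)) ⟶ (DCoh.Rpush f).obj K)) (eta_bijective f K)

theorem etaEquiv_apply {K : DCoh.D X} (s : P X ⟶ K) :
    etaEquiv f K s = eta f ≫ (DCoh.Rpush f).map s := rfl

theorem etaEquiv_smul {K : DCoh.D X} (a : A) (s : P X ⟶ K) :
    etaEquiv f K (rho f a • s) = rho (𝟙 (Spec (CommRingCat.of A))) a • etaEquiv f K s :=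
  eta_smul f a s

theorem etaEquiv_symm_smul {K : DCoh.D X} (a : A)
    (t : P (Spec (CommRingCat.of A)) ⟶ (DCoh.Rpush f).obj K) :
    (etaEquiv f K).symm (rho (𝟙 (Spec (CommRingCat.of A))) a • t) =
      rho f a • (etaEquiv f K).symm t := by
  apply (etaEquiv f K).injective
  rw [etaEquiv_smul, AddEquiv.apply_symm_apply, AddEquiv.apply_symm_apply]

variable {M : DCoh.D X} (τ : (DCoh.Rpush f).obj M ⟶ P (Spec (CommRingCat.of A)))

/-- The form on `Hom(O_X, M)` attached to `τ`. -/
noncomputable def form : (P X ⟶ M) →+ A :=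
  (endEquiv A).symm.toAddMonoidHom.comp
    ({ toFun := fun s => (eta f ≫ (DCoh.Rpush f).map s) ≫ τ
       map_zero' := by rw [Functor.map_zero, comp_zero, zero_comp]
       map_add' := fun s t => by
        rw [Functor.map_add, Preadditive.comp_add, Preadditive.add_comp] } :
      (P X ⟶ M) →+ (P (Spec (CommRingCat.of A)) ⟶ P (Spec (CommRingCat.of A))))

theorem endEquiv_form (s : P X ⟶ M) :
    endEquiv A (form f τ s) = (eta f ≫ (DCoh.Rpush f).map s) ≫ τ :=
  (endEquiv A).apply_symm_apply _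

theorem form_smul (a : A) (s : P X ⟶ M) : form f τ (rho f a • s) = a * form f τ s := by
  apply (endEquiv A).injective
  rw [endEquiv_form, eta_smul, Linear.smul_comp, ← endEquiv_form, endEquiv_apply, endEquiv_apply,
    map_mul, mul_smul]

variable {f τ}

/-- `Hom(K, M)` is the set of `A`-linear forms on `Hom(O_X, K)`. -/
theorem existsUnique_hom (hu : IsUniv f (P (Spec (CommRingCat.of A))) M τ) (K : DCoh.D X)
    (hK : DCoh.IsQCohD K) (hfK : DCoh.IsQCohD ((DCoh.Rpush f).obj K))
    (hLE : ((DCoh.Rpush f).obj K).IsLE 0) (ψ : (P X ⟶ K) →+ A)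
    (hψ : ∀ (a : A) (s : P X ⟶ K), ψ (rho f a • s) = a * ψ s) :
    ∃! φ : K ⟶ M, ∀ s : P X ⟶ K, form f τ (s ≫ φ) = ψ s := by
  let ψ' : (P (Spec (CommRingCat.of A)) ⟶ (DCoh.Rpush f).obj K) →+
      (P (Spec (CommRingCat.of A)) ⟶ P (Spec (CommRingCat.of A))) :=
    (endEquiv A).toAddMonoidHom.comp (ψ.comp (etaEquiv f K).symm.toAddMonoidHom)
  have hψ' : ∀ t, ψ' t = endEquiv A (ψ ((etaEquiv f K).symm t)) := fun t => rfl
  obtain ⟨θ, hθ, hθu⟩ := isRefl_spec A _ hfK hLE ψ' fun e t => by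
    obtain ⟨a, rfl⟩ := (endEquiv A).surjective e
    have h1 : ∀ {L : DCoh.D (Spec (CommRingCat.of A))} (u : P (Spec (CommRingCat.of A)) ⟶ L),
        endEquiv A a ≫ u = rho (𝟙 (Spec (CommRingCat.of A))) a • u := fun u => by
      rw [endEquiv_apply, Linear.smul_comp, Category.id_comp]
    rw [hψ', hψ', h1, h1, etaEquiv_symm_smul, hψ, endEquiv_apply, endEquiv_apply, map_mul, mul_smul]
  obtain ⟨φ, hφ⟩ := (hu.bij K hK).2 θ
  dsimp only at hφ
  have key : ∀ φ' : K ⟶ M, (∀ s : P X ⟶ K, form f τ (s ≫ φ') = ψ s) ↔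
      (DCoh.Rpush f).map φ' ≫ τ = θ := by
    intro φ'
    constructor
    · intro h
      refine hθu _ fun t => ?_
      have h1 := h ((etaEquiv f K).symm t)
      rw [hψ', ← h1, endEquiv_form, Functor.map_comp, ← Category.assoc, ← Category.assoc,
        ← etaEquiv_apply, AddEquiv.apply_symm_apply]
    · intro h s
      apply (endEquiv A).injective
      have h1 := hθ (etaEquiv f K s)
      rw [hψ', AddEquiv.symm_apply_apply, ← h, etaEquiv_apply] at h1
      rw [endEquiv_form, ← h1, Functor.map_comp]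
      simp only [Category.assoc]
  exact ⟨φ, (key φ).2 hφ, fun φ' hφ' => (hu.bij K hK).1 (((key φ').1 hφ').trans hφ.symm)⟩

end Push

end K174.TraceA
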