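import Groth.Agent.Dual.K174.TraceA
import Groth.Agent.CurvesC.HomHV
import Groth.Agent.Canon.K769.Basic
import Groth.Agent.CohqB.RelVan
import Groth.Agent.LoccohB.TopRepBound

/-!
# The trace of `a(O) = ω[n]` is a dualizing pair

`f : X ⟶ Spec A`, `τ : Rf_* M ⟶ O` universal, `ι : ω[n] ≅ M`, `H^p(X, -) = 0` on quasi-coherent modules
for `p > n`.
* `trace A X n ι τ : H^n(X, ω) → A`;
* `isRDualOver`: `(ω, trace)` is an `n`-dualizing pair.
-/

set_option autoImplicit false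
universe u
open CategoryTheory CategoryTheory.Limits AlgebraicGeometry
attribute [local instance] HasDerivedCategory.standard

namespace K174.TraceB

open Groth.Agent Groth.Agent.Dual.H345.HomBCX Groth.Agent.Ega1.ADualUniv K174.TraceA

attribute [local instance] Groth.Agent.PerfB.BCSch.hasLpull Groth.Agent.Dcoh.DerSch.hasRpush

variable (A : Type u) [CommRing A] (X : Scheme.{u}) [X.Over (Spec (CommRingCat.of A))]

theorem smulMod_eq (M : X.Modules) (a : A) : Formal.smulMod A M a =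
    LoccohB.HHmap.smulHom M (rho (X ↘ Spec (CommRingCat.of A)) a) := by
  apply Scheme.Modules.hom_ext
  intro V
  ext s
  rfl

theorem smulMod_eq_smul (M : X.Modules) (a : A) : Formal.smulMod A M a =
    rho (X ↘ Spec (CommRingCat.of A)) a • 𝟙 M := by
  rw [smulMod_eq, LoccohB.SectLin303.smul_eq, Category.comp_id]

theorem single_smulMod (a : A) :
    (DerivedCategory.singleFunctor X.Modules 0).map (Formal.smulMod A (Coh.structureModule X) a) =
      rho (X ↘ Spec (CommRingCat.of A)) a • 𝟙 (P X) := by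
  rw [smulMod_eq_smul, Functor.map_smul, CategoryTheory.Functor.map_id]

variable {X} in
theorem homHV_rho (F : X.Modules) (n : ℕ) (a : A) (s : P X ⟶ (DCoh.inD X F)⟦(n : ℤ)⟧) :
    CurvesC.HomHV.homHV F n (rho (X ↘ Spec (CommRingCat.of A)) a • s) =
      a • CurvesC.HomHV.homHV F n s := by
  have h := CurvesC.HomHV.homHV_smul A a F n s
  rw [single_smulMod, Linear.smul_comp, Category.id_comp] at h
  exact h

section Trace

variable {X} {ω : X.Modules} {M : DCoh.D X} (n : ℕ) (ι : (DCoh.inD X ω)⟦(n : ℤ)⟧ ⟶ M)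
  (τ : (DCoh.Rpush (X ↘ Spec (CommRingCat.of A))).obj M ⟶ P (Spec (CommRingCat.of A)))

/-- The trace on the sealed cohomology. -/
noncomputable def traceV : CurvesC.HV X ω n →ₗ[A] A where
  toFun x := form (X ↘ Spec (CommRingCat.of A)) τ ((CurvesC.HomHV.homHV ω n).symm x ≫ ι)
  map_add' x y := by rw [map_add, Preadditive.add_comp, map_add]
  map_smul' a x := by
    have h : (CurvesC.HomHV.homHV ω n).symm (a • x) =
        rho (X ↘ Spec (CommRingCat.of A)) a • (CurvesC.HomHV.homHV ω n).symm x := by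
      apply (CurvesC.HomHV.homHV ω n).injective
      rw [homHV_rho, AddEquiv.apply_symm_apply, AddEquiv.apply_symm_apply]
    rw [h, Linear.smul_comp, form_smul]
    rfl

/-- The trace `H^n(X, ω) → A`. -/
noncomputable def trace : Coh.HH X ω n →ₗ[A] A :=
  traceV A n ι τ ∘ₗ (CurvesC.HV.equiv A ω n).symm.toLinearMap

theorem trace_homHV (s : P X ⟶ (DCoh.inD X ω)⟦(n : ℤ)⟧) :
    trace A n ι τ (CurvesC.HV.equiv A ω n (CurvesC.HomHV.homHV ω n s)) =
      form (X ↘ Spec (CommRingCat.of A)) τ (s ≫ ι) := by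
  change form (X ↘ Spec (CommRingCat.of A)) τ
    ((CurvesC.HomHV.homHV ω n).symm (CurvesC.HomHV.homHV ω n s) ≫ ι) = _
  rw [AddEquiv.symm_apply_apply]

/-- Every class is in the image of `homHV`. -/
theorem exists_homHV (F : X.Modules) (x : Coh.HH X F n) :
    ∃ s : P X ⟶ (DCoh.inD X F)⟦(n : ℤ)⟧,
      CurvesC.HV.equiv A F n (CurvesC.HomHV.homHV F n s) = x :=
  ⟨(CurvesC.HomHV.homHV F n).symm ((CurvesC.HV.equiv A F n).symm x), by
    rw [AddEquiv.apply_symm_apply, LinearEquiv.apply_symm_apply]⟩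

theorem trace_HHlin {F : X.Modules} (φ : F ⟶ ω) (s : P X ⟶ (DCoh.inD X F)⟦(n : ℤ)⟧) :
    trace A n ι τ (Canon.HHlin A φ n
      (CurvesC.HV.equiv A F n (CurvesC.HomHV.homHV F n s))) =
      form (X ↘ Spec (CommRingCat.of A)) τ
        (s ≫ ((DerivedCategory.singleFunctor X.Modules 0).map φ)⟦(n : ℤ)⟧' ≫ ι) := by
  rw [← Category.assoc, ← trace_homHV, CurvesC.HomHV.homHV_map A, CurvesC.HV.equiv_map]
  rfl

end Trace

variable {A X}

/-- The shifted form: maps `F[d] ⟶ w[d]` are maps `F ⟶ w`. -/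
theorem shift_map_bijective (d : ℤ) (F w : X.Modules) : Function.Bijective (fun φ : F ⟶ w =>
    (((DerivedCategory.singleFunctor X.Modules 0).map φ)⟦d⟧' :
      (DCoh.inD X F)⟦d⟧ ⟶ (DCoh.inD X w)⟦d⟧)) := by
  have h1 : Function.Bijective (fun φ : F ⟶ w => (DerivedCategory.singleFunctor X.Modules 0).map φ) :=
    ⟨Functor.map_injective _, Functor.map_surjective _⟩
  have h2 : Function.Bijective (fun φ : DCoh.inD X F ⟶ DCoh.inD X w =>
    (shiftFunctor (DCoh.D X) d).map φ) := ⟨Functor.map_injective _, Functor.map_surjective _⟩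
  exact h2.comp h1

theorem isLE_Rpush_shift (f : X ⟶ Spec (CommRingCat.of A)) [QuasiCompact f] [QuasiSeparated f]
    (n : ℕ) (F : X.Modules) (hF : Coh.IsQCoh F)
    (hv : ∀ p : ℕ, n < p → Subsingleton (Coh.HH X F p)) :
    ((DCoh.Rpush f).obj ((DCoh.inD X F)⟦(n : ℤ)⟧)).IsLE 0 := by
  have h1 : ∀ p : ℕ, n < p → IsZero ((Coh.Rpush f p).obj F) := fun p hp =>
    CohqB.RelVan.isZero_Rpush f F hF p (hv p hp)
  have h2 := LoccohB.TopRepBound.isLE_rpush_single f F n h1 (-(n : ℤ))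
  rw [neg_add_cancel] at h2
  exact (DerivedCategory.TStructure.t (C := (Spec (CommRingCat.of A)).Modules)).isLE_of_iso
    ((DCoh.Rpush f).mapIso
      (((DerivedCategory.singleFunctors X.Modules).shiftIso (n : ℤ) (-(n : ℤ)) 0 (by lia)).app F).symm) 0

theorem isRDualOver [QuasiCompact (X ↘ Spec (CommRingCat.of A))]
    [QuasiSeparated (X ↘ Spec (CommRingCat.of A))] {ω : X.Modules} (hω : Coh.IsQCoh ω)
    {M : DCoh.D X} (n : ℕ) (ι : (DCoh.inD X ω)⟦(n : ℤ)⟧ ≅ M)
    {τ : (DCoh.Rpush (X ↘ Spec (CommRingCat.of A))).obj M ⟶ P (Spec (CommRingCat.of A))}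
    (hu : IsUniv (X ↘ Spec (CommRingCat.of A)) (P (Spec (CommRingCat.of A))) M τ)
    (hv : ∀ F : X.Modules, Coh.IsQCoh F → ∀ p : ℕ, n < p → Subsingleton (Coh.HH X F p)) :
    Canon.IsRDualOver A X n ω (trace A n ι.hom τ) := by
  refine ⟨hω, fun F hF => (Function.bijective_iff_existsUnique _).2 fun g => ?_⟩
  let K : DCoh.D X := (DCoh.inD X F)⟦(n : ℤ)⟧
  have hK : DCoh.IsQCohD K := PerfA.QCohD.isQCohD_shift (PerfA.QCohD.isQCohD_inD F hF) _
  have hfK : DCoh.IsQCohD ((DCoh.Rpush (X ↘ Spec (CommRingCat.of A))).obj K) :=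
    S0998.result _ K hK
  have hLE : ((DCoh.Rpush (X ↘ Spec (CommRingCat.of A))).obj K).IsLE 0 :=
    isLE_Rpush_shift _ n F hF (hv F hF)
  let ψ : (P X ⟶ K) →+ A := g.toAddMonoidHom.comp
    ((CurvesC.HV.equiv A F n).toLinearMap.toAddMonoidHom.comp
      (CurvesC.HomHV.homHV F n).toAddMonoidHom)
  have hψ : ∀ s, ψ s = g (CurvesC.HV.equiv A F n (CurvesC.HomHV.homHV F n s)) := fun s => rfl
  obtain ⟨φ', hφ', hφu⟩ := existsUnique_hom hu K hK hfK hLE ψ fun a s => by
    rw [hψ, hψ, homHV_rho, map_smul, map_smul]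
    rfl
  obtain ⟨φ, hφ⟩ := (shift_map_bijective (n : ℤ) F ω).2 (φ' ≫ ι.inv)
  dsimp only at hφ
  have key : ∀ θ : F ⟶ ω, (Canon.dualityMap A X n ω (trace A n ι.hom τ) F θ = g) ↔
      ((DerivedCategory.singleFunctor X.Modules 0).map θ)⟦(n : ℤ)⟧' ≫ ι.hom = φ' := by
    intro θ
    constructor
    · intro h
      refine hφu _ fun s => ?_
      rw [hψ, ← h, ← trace_HHlin]
      rfl
    · intro h
      apply LinearMap.ext
      intro x
      obtain ⟨s, rfl⟩ := exists_homHV A n F x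
      rw [← hψ, ← hφ' s, ← h, ← trace_HHlin]
      rfl
  refine ⟨φ, (key φ).2 (by rw [hφ, Category.assoc, Iso.inv_hom_id, Category.comp_id]),
    fun θ hθ => (shift_map_bijective (n : ℤ) F ω).1 ?_⟩
  have h1 := (key θ).1 hθ
  dsimp only
  rw [hφ, ← h1, Category.assoc, Iso.hom_inv_id, Category.comp_id]

end K174.TraceB
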