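import Groth.Agent.Dual.K174.TraceA
import Groth.Agent.Dual.H345.HomBCY
import Groth.Agent.Dual.H323.RelPerfect
import Groth.Agent.S0887

/-!
# `O_Y ⟶ Rf_* O_X` is split for `f` proper, flat, surjective and locally of finite presentation, `Y` affine

* `exists_affine_cover`;
* `injective_lpull`: for `A → B` faithfully flat and `E` perfect, `Hom(E, L) → Hom(Lg^* E, Lg^* L)` is injective;
* `exists_retraction`: `eta f : O_Y ⟶ Rf_* O_X` has a retraction.
-/

set_option autoImplicit false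
universe u
open CategoryTheory CategoryTheory.Limits AlgebraicGeometry Pretriangulated
open scoped TensorProduct
attribute [local instance] HasDerivedCategory.standard

namespace K174.TraceC

open Groth.Agent Groth.Agent.Dual.H345.HomBCX K174.TraceA
open Groth.Agent.LoccohB.HomBC

attribute [local instance] Groth.Agent.PerfB.BCSch.hasLpull Groth.Agent.Dcoh.DerSch.hasRpush
  additive_lpull additive_rpush

/-- An affine scheme mapping to `U`, with surjective composite to `S`. -/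
lemma exists_affine_cover {U S : Scheme.{u}} (g : U ⟶ S) [Flat g] [LocallyOfFinitePresentation g]
    [Surjective g] [CompactSpace S] :
    ∃ (U' : Scheme.{u}) (q : U' ⟶ U), IsAffine U' ∧ Flat (q ≫ g) ∧ Surjective (q ≫ g) := by
  have h : ∀ x : S, ∃ (u : U) (W : U.Opens), g u = x ∧ u ∈ W ∧ IsAffineOpen W := by
    intro x
    obtain ⟨u, hu⟩ := g.surjective x
    obtain ⟨W, hW, hxW, -⟩ := exists_isAffineOpen_mem_and_subset (X := U) (U := ⊤) (x := u) trivial
    exact ⟨u, W, hu, hxW, hW⟩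
  choose w W hw hwW hW using h
  obtain ⟨t, ht⟩ := isCompact_univ.elim_finite_subcover (fun x : S => g '' (W x : Set U))
    (fun x => g.isOpenMap _ (W x).2) (fun x _ => Set.mem_iUnion.2 ⟨x, w x, hwW x, hw x⟩)
  let Y : t → Scheme.{u} := fun x => (W x.1 : Scheme.{u})
  have hY : ∀ x, IsAffine (Y x) := fun x => hW x.1
  let q : (∐ Y) ⟶ U := Sigma.desc (fun x => (W x.1).ι)
  have hq1 : Flat q := inferInstanceAs (Flat (Sigma.desc (fun x : t => (W x.1).ι)))
  refine ⟨∐ Y, q, inferInstance, inferInstance, ⟨fun x => ?_⟩⟩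
  obtain ⟨y, hy, hxy⟩ := Set.mem_iUnion₂.1 (ht (Set.mem_univ x))
  obtain ⟨u, hu, hux⟩ := hxy
  refine ⟨Sigma.ι Y ⟨y, hy⟩ ⟨u, hu⟩, ?_⟩
  have e : Sigma.ι Y ⟨y, hy⟩ ≫ q = (W y).ι := Sigma.ι_desc _ _
  have e' : (Sigma.ι Y ⟨y, hy⟩ ≫ q ≫ g) = (W y).ι ≫ g := by rw [← Category.assoc, e]
  have e'' := congrArg (fun z : (W y : Scheme.{u}) ⟶ S => z ⟨u, hu⟩) e'
  exact e''.trans hux

section Inj

variable {A B : Type u} [CommRing A] [CommRing B] [Algebra A B] [Module.FaithfullyFlat A B]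

theorem injective_lpull (E L : DCoh.D (Spec (CommRingCat.of A))) (hE : DCoh.IsPerfect E)
    (hL : DCoh.IsQCohD L) (θ : E ⟶ L)
    (h0 : (DCoh.Lpull (Spec.map (CommRingCat.ofHom (algebraMap A B)))).map θ = 0) : θ = 0 := by
  have hflat : (algebraMap A B).Flat := (RingHom.flat_algebraMap_iff).2 inferInstance
  have h := Dual.H345.HomBCY.bcBij_spec_perfect B hflat E L hE hL
  let _ := lin (𝟙 (Spec (CommRingCat.of A)))
  let _ := lin (𝟙 (Spec (CommRingCat.of B)))
  have := semiLinear_lpull (𝟙 (Spec (CommRingCat.of A))) (𝟙 (Spec (CommRingCat.of B)))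
    (Spec.map (CommRingCat.ofHom (algebraMap A B))) (w_spec A B)
  have h1 : Function.Bijective
    (bc A B (DCoh.Lpull (Spec.map (CommRingCat.ofHom (algebraMap A B)))) E L) := h
  have h2 := Module.FaithfullyFlat.tensorProduct_mk_injective (A := A) (B := B) (E ⟶ L)
  apply h2
  apply h1.1
  rw [TensorProduct.mk_apply, TensorProduct.mk_apply, bc_tmul, bc_tmul, h0, smul_zero,
    Functor.map_zero, smul_zero]

end Inj

section Split

open Groth.Agent.PerfB.BCTot Groth.Agent.PerfB.BCTot.Tot Groth.Agent.PerfB.BCSch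

variable {A : Type u} [CommRing A] {X : Scheme.{u}} (f : X ⟶ Spec (CommRingCat.of A))

/-- `Lf^*` of the unit is a split monomorphism. -/
theorem lpull_eta : ∃ r : (DCoh.Lpull f).obj ((DCoh.Rpush f).obj (P X)) ⟶
    (DCoh.Lpull f).obj (P (Spec (CommRingCat.of A))), (DCoh.Lpull f).map (eta f) ≫ r = 𝟙 _ := by
  refine ⟨(Groth.Agent.PerfB.BCShift.lAdj f).counit.app _ ≫
    (Groth.Agent.PerfB.ModBC.lpullInD f).inv, ?_⟩
  have h : (DCoh.Lpull f).map (eta f) ≫ (Groth.Agent.PerfB.BCShift.lAdj f).counit.app _ =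
      (Groth.Agent.PerfB.ModBC.lpullInD f).hom := by
    refine ((Groth.Agent.PerfB.BCShift.lAdj f).homEquiv_counit (g := eta f)).symm.trans ?_
    exact Equiv.symm_apply_apply _ _
  rw [← Category.assoc, h, Iso.hom_inv_id]

theorem eq_zero_of_comp_eta {B : Type u} [CommRing B] [Algebra A B] [Module.FaithfullyFlat A B]
    (q : Spec (CommRingCat.of B) ⟶ X)
    (hq : q ≫ f = Spec.map (CommRingCat.ofHom (algebraMap A B)))
    (E : DCoh.D (Spec (CommRingCat.of A))) (hE : DCoh.IsPerfect E)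
    (θ : E ⟶ P (Spec (CommRingCat.of A))) (hθ : θ ≫ eta f = 0) : θ = 0 := by
  have hP : DCoh.IsQCohD (P (Spec (CommRingCat.of A))) :=
    PerfA.QCohD.isQCohD_inD _ (Ega2.QCohLocal.isQCoh_structureModule _)
  refine injective_lpull (B := B) E _ hE hP θ ?_
  rw [← hq]
  obtain ⟨r, hr⟩ := lpull_eta f
  have h1 : (DCoh.Lpull f).map θ = 0 := by
    have h2 : (DCoh.Lpull f).map (θ ≫ eta f) ≫ r = (DCoh.Lpull f).map 0 ≫ r := by rw [hθ]
    rw [Functor.map_comp, Category.assoc, hr, Category.comp_id, Functor.map_zero, zero_comp] at h2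
    exact h2
  let e : DCoh.Lpull f ⋙ DCoh.Lpull q ≅ DCoh.Lpull (q ≫ f) := (dPull.{u}).compI q f
  have h3 := e.hom.naturality θ
  have h4 : (DCoh.Lpull q).map ((DCoh.Lpull f).map θ) = 0 := by rw [h1, Functor.map_zero]
  rw [← cancel_epi (e.hom.app E), comp_zero]
  refine h3.symm.trans ?_
  exact (congrArg (fun z => z ≫ e.hom.app _) h4).trans zero_comp

theorem isPerfect_P (X : Scheme.{u}) : DCoh.IsPerfect (P X) :=
  PerfA.PerfLocal.isPerfect_inD_of_isFinLocFree Dcoh.LocalFree.isFinLocFree_structureModule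

/-- The unit `O_Y ⟶ Rf_* O_X` is a split monomorphism. -/
theorem exists_retraction [IsProper f] [Flat f] [LocallyOfFinitePresentation f] [Surjective f] :
    ∃ r : (DCoh.Rpush f).obj (P X) ⟶ P (Spec (CommRingCat.of A)), eta f ≫ r = 𝟙 _ := by
  obtain ⟨U, q, hU, hfl, hsu⟩ := exists_affine_cover f
  let q' : Spec Γ(U, ⊤) ⟶ X := U.isoSpec.inv ≫ q
  have hfl' : Flat (q' ≫ f) := by
    rw [Category.assoc]
    infer_instance
  have hsu' : Surjective (q' ≫ f) := by
    rw [Category.assoc]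
    infer_instance
  let φ : CommRingCat.of A ⟶ Γ(U, ⊤) := Spec.preimage (q' ≫ f)
  have hφ : Spec.map φ = q' ≫ f := Spec.map_preimage _
  have hff : φ.hom.FaithfullyFlat := by
    rw [← flat_and_surjective_SpecMap_iff, hφ]
    exact ⟨hfl', hsu'⟩
  let _ : Algebra A Γ(U, ⊤) := φ.hom.toAlgebra
  have : Module.FaithfullyFlat A Γ(U, ⊤) := hff
  obtain ⟨C, p, δ, hT⟩ := distinguished_cocone_triangle (eta f)
  have hC : DCoh.IsPerfect C :=
    S0887.isPerfect_obj₃ _ hT (isPerfect_P _) (Dual.H323.RelPerfect.isPerfect_Rpush f _ (isPerfect_P X))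
  have hC' : DCoh.IsPerfect (C⟦(-1 : ℤ)⟧) := Dcoh.StrPerf.isPerfect_shift hC _
  have hT' := inv_rot_of_distTriang _ hT
  have h0 : (Triangle.mk (eta f) p δ).invRotate.mor₁ ≫ eta f = 0 := comp_distTriang_mor_zero₁₂ _ hT'
  have h1 : (Triangle.mk (eta f) p δ).invRotate.mor₁ = 0 :=
    eq_zero_of_comp_eta f (B := Γ(U, ⊤)) q' hφ.symm _ hC' _ h0
  obtain ⟨r, hr⟩ := Triangle.yoneda_exact₂ _ hT' (𝟙 (P (Spec (CommRingCat.of A))))
    ((congrArg (fun z => z ≫ 𝟙 (P (Spec (CommRingCat.of A)))) h1).trans zero_comp)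
  exact ⟨r, hr.symm⟩

end Split

end K174.TraceC
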