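import Groth.Agent.Dual.K174.TraceB
import Groth.Agent.Dual.K174.TraceC
import Groth.Agent.Dual.K174.AdjCM
import Groth.Agent.Dual.H318.PureDim
import Groth.Agent.Flat2G.FibDimVanish
import Groth.Agent.VarietyB.DimTop
import Groth.Agent.S1766

/-!
# The trace of a proper Cohen–Macaulay scheme over an affine base

`X` proper, flat, locally of finite presentation over `Spec A`, Cohen–Macaulay with fibres of pure dimension `n`.
* `exists_core`: `a(O) = ω[n]` and its trace is an `n`-dualizing pair;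
* `surjective_of_retraction`, `injective_of`: surjectivity and injectivity of the trace in terms of
  `eta f : O_Y ⟶ Rf_* O_X`.
-/

set_option autoImplicit false
universe u
open CategoryTheory CategoryTheory.Limits AlgebraicGeometry
attribute [local instance] HasDerivedCategory.standard

namespace K174.TraceD

open Groth.Agent Groth.Agent.Dual.H345.HomBCX Groth.Agent.Ega1.ADualUniv K174.TraceA K174.TraceB

attribute [local instance] Groth.Agent.PerfB.BCSch.hasLpull Groth.Agent.Dcoh.DerSch.hasRpush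

variable {A : Type u} [CommRing A]

theorem exists_isUniv {X : Scheme.{u}} (f : X ⟶ Spec (CommRingCat.of A)) [QuasiCompact f]
    [QuasiSeparated f] : ∃ (M : DCoh.D X) (τ : (DCoh.Rpush f).obj M ⟶ P (Spec (CommRingCat.of A))),
      IsUniv f (P (Spec (CommRingCat.of A))) M τ := by
  have h1 : CompactSpace X := QuasiCompact.compactSpace_of_compactSpace f
  have h2 : QuasiSeparatedSpace X := quasiSeparatedSpace_of_quasiSeparated f
  have h := S1766.result X (Spec (CommRingCat.of A)) f (fun K hK => S0998.result f K hK)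
  let O : DCoh.DQCoh (Spec (CommRingCat.of A)) := ⟨P (Spec (CommRingCat.of A)),
    PerfA.QCohD.isQCohD_inD _ (Ega2.QCohLocal.isQCoh_structureModule _)⟩
  exact ⟨_, _, isUniv_of_adj (Adjunction.ofIsLeftAdjoint _) O⟩

section Core

variable {X : Scheme.{u}} [X.Over (Spec (CommRingCat.of A))] {ω : X.Modules} {M : DCoh.D X} (n : ℕ)
  (ι : (DCoh.inD X ω)⟦(n : ℤ)⟧ ≅ M)
  {τ : (DCoh.Rpush (X ↘ Spec (CommRingCat.of A))).obj M ⟶ P (Spec (CommRingCat.of A))}
  (hu : IsUniv (X ↘ Spec (CommRingCat.of A)) (P (Spec (CommRingCat.of A))) M τ)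

include hu in
theorem surjective_of_retraction (r : (DCoh.Rpush (X ↘ Spec (CommRingCat.of A))).obj (P X) ⟶
    P (Spec (CommRingCat.of A))) (hr : eta (X ↘ Spec (CommRingCat.of A)) ≫ r = 𝟙 _) :
    Function.Surjective (trace A n ι.hom τ) := by
  intro a
  obtain ⟨s, hs⟩ := (hu.bij (P X)
    (PerfA.QCohD.isQCohD_inD _ (Ega2.QCohLocal.isQCoh_structureModule _))).2 (r ≫ endEquiv A a)
  dsimp only at hs
  refine ⟨CurvesC.HV.equiv A ω n (CurvesC.HomHV.homHV ω n (s ≫ ι.inv)), ?_⟩
  rw [trace_homHV, Category.assoc, Iso.inv_hom_id, Category.comp_id]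
  apply (endEquiv A).injective
  rw [endEquiv_form, Category.assoc, hs, ← Category.assoc, hr, Category.id_comp]

include hu in
theorem injective_of (h : ∀ r : (DCoh.Rpush (X ↘ Spec (CommRingCat.of A))).obj (P X) ⟶
    P (Spec (CommRingCat.of A)), eta (X ↘ Spec (CommRingCat.of A)) ≫ r = 0 → r = 0) :
    Function.Injective (trace A n ι.hom τ) := by
  rw [injective_iff_map_eq_zero]
  intro x hx
  obtain ⟨s, rfl⟩ := exists_homHV A n ω x
  rw [trace_homHV] at hx
  have h1 := endEquiv_form (X ↘ Spec (CommRingCat.of A)) τ (s ≫ ι.hom)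
  rw [hx, map_zero, Category.assoc] at h1
  have h2 := h _ h1.symm
  have h3 : s ≫ ι.hom = 0 := by
    apply (hu.bij (P X)
      (PerfA.QCohD.isQCohD_inD _ (Ega2.QCohLocal.isQCoh_structureModule _))).1
    dsimp only
    rw [h2, Functor.map_zero, zero_comp]
  have h4 : s = 0 := by
    rw [← cancel_mono ι.hom, h3, zero_comp]
  rw [h4, map_zero, map_zero]

end Core

section Main

variable {X : Scheme.{u}} [X.Over (Spec (CommRingCat.of A))]

/-- Two dualizing pairs: surjectivity and injectivity of the traces are equivalent. -/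
theorem exists_comp {ω ω' : X.Modules} {n : ℕ} {tr : Coh.HH X ω n →ₗ[A] A}
    {tr' : Coh.HH X ω' n →ₗ[A] A} (h : Canon.IsRDualOver A X n ω tr)
    (h' : Canon.IsRDualOver A X n ω' tr') :
    ∃ e : Coh.HH X ω' n → Coh.HH X ω n, Function.Bijective e ∧ ⇑tr' = tr ∘ e := by
  obtain ⟨⟨ρ, hρ, -⟩, h2⟩ := K769.Basic.existsUnique_of_pair h h'
  have := h2 ρ hρ
  refine ⟨Canon.HHlin A ρ n, ?_, ?_⟩
  · have h3 : ∀ x, Canon.HHlin A (inv ρ) n (Canon.HHlin A ρ n x) = x := fun x => by
      rw [← LinearMap.comp_apply, ← K769.Basic.HHlin_comp, IsIso.hom_inv_id, K769.Basic.HHlin_id,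
        LinearMap.id_apply]
    have h4 : ∀ x, Canon.HHlin A ρ n (Canon.HHlin A (inv ρ) n x) = x := fun x => by
      rw [← LinearMap.comp_apply, ← K769.Basic.HHlin_comp, IsIso.inv_hom_id, K769.Basic.HHlin_id,
        LinearMap.id_apply]
    exact ⟨Function.LeftInverse.injective h3, Function.RightInverse.surjective h4⟩
  · funext x
    exact (LinearMap.congr_fun hρ x).symm

variable [IsProper (X ↘ Spec (CommRingCat.of A))] [Flat (X ↘ Spec (CommRingCat.of A))]
  [LocallyOfFinitePresentation (X ↘ Spec (CommRingCat.of A))]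

/-- `a(O) = ω[n]` and its trace is an `n`-dualizing pair. -/
theorem exists_core (hCM : ∀ x : X, MoreMor.IsCMAt (X ↘ Spec (CommRingCat.of A)) x) (n : ℕ)
    (hd : ∀ (y : ↥(Spec (CommRingCat.of A))) (Z : Set ↥((X ↘ Spec (CommRingCat.of A)).fiber y)),
      Z ∈ irreducibleComponents ↥((X ↘ Spec (CommRingCat.of A)).fiber y) →
        topologicalKrullDim ↥Z = (n : WithBot ℕ∞)) :
    ∃ (ω : X.Modules) (M : DCoh.D X) (ι : (DCoh.inD X ω)⟦(n : ℤ)⟧ ≅ M)
      (τ : (DCoh.Rpush (X ↘ Spec (CommRingCat.of A))).obj M ⟶ P (Spec (CommRingCat.of A))),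
      IsUniv (X ↘ Spec (CommRingCat.of A)) (P (Spec (CommRingCat.of A))) M τ ∧
      FlatMod.IsFlatOver (X ↘ Spec (CommRingCat.of A)) ω ∧
      Canon.IsRDualOver A X n ω (trace A n ι.hom τ) := by
  obtain ⟨M, τ, hu⟩ := exists_isUniv (X ↘ Spec (CommRingCat.of A))
  obtain ⟨ω, hω, hfl, ⟨ι⟩⟩ := AdjCM.exists_iso (X ↘ Spec (CommRingCat.of A)) (Iso.refl _) ⟨τ, hu⟩
    hCM n (Dual.H318.PureDim.fibreDimAt_eq _ n hd)
  have hdim : ∀ y : Spec (CommRingCat.of A), topologicalKrullDim
      ↥((X ↘ Spec (CommRingCat.of A)).fiber y) ≤ (n : WithBot ℕ∞) := by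
    intro y
    rw [Groth.Agent.VarietyB.DimTop.topologicalKrullDim_eq_iSup_irreducibleComponents]
    exact iSup_le fun Z => (hd y Z.1 Z.2).le
  exact ⟨ω, M, ι, τ, hu, hfl, isRDualOver hω n ι hu fun F hF p hp =>
    Groth.Agent.Flat2G.FibDimVanish.subsingleton_HH (X ↘ Spec (CommRingCat.of A)) n hdim F hF p hp⟩

/-- The trace is surjective if `X ⟶ Spec A` is surjective. -/
theorem surjective_main [Surjective (X ↘ Spec (CommRingCat.of A))]
    (hCM : ∀ x : X, MoreMor.IsCMAt (X ↘ Spec (CommRingCat.of A)) x) (n : ℕ)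
    (hd : ∀ (y : ↥(Spec (CommRingCat.of A))) (Z : Set ↥((X ↘ Spec (CommRingCat.of A)).fiber y)),
      Z ∈ irreducibleComponents ↥((X ↘ Spec (CommRingCat.of A)).fiber y) →
        topologicalKrullDim ↥Z = (n : WithBot ℕ∞)) {ω : X.Modules} {tr : Coh.HH X ω n →ₗ[A] A}
    (h : Canon.IsRDualOver A X n ω tr) : Function.Surjective tr := by
  obtain ⟨ω', M, ι, τ, hu, -, h'⟩ := exists_core hCM n hd
  obtain ⟨e, he, he'⟩ := exists_comp h' h
  obtain ⟨r, hr⟩ := TraceC.exists_retraction (X ↘ Spec (CommRingCat.of A))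
  rw [he']
  exact (surjective_of_retraction n ι hu r hr).comp he.2

end Main

end K174.TraceD
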