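import Groth.Agent.Dual.K174.TraceC
import Groth.Agent.PerfB.UnitComm
import Groth.Agent.PerfB.H0Fibre
import Groth.Agent.S6974
import Groth.Agent.S6948
import Groth.Agent.S1536
import Groth.Agent.CurvesB.HZero
import Groth.Agent.DRing.K226.TorAmpB
import Groth.Agent.DRing.K228.TorPerf

/-!
# Maps from the complement of `O` in `Rf_* O_X` to `O` vanish

`f : X ⟶ Spec A` proper, flat, locally of finite presentation with geometrically connected and geometrically
reduced fibres: a map `r : Rf_* O_X ⟶ O` with `eta f ≫ r = 0` is zero (`eq_zero_of_eta_comp`).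
-/

set_option autoImplicit false
universe u
open CategoryTheory CategoryTheory.Limits AlgebraicGeometry Pretriangulated
attribute [local instance] HasDerivedCategory.standard

namespace K174.TraceE

open Groth.Agent Groth.Agent.Dual.H345.HomBCX K174.TraceA K174.TraceC

attribute [local instance] Groth.Agent.PerfB.BCSch.hasLpull Groth.Agent.Dcoh.DerSch.hasRpush
  additive_lpull additive_rpush

section Ring

variable {A : Type u} [CommRing A]

/-- Perfect complexes are pseudo-coherent. -/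
theorem isPseudoCoherent'_of_isPerfect (K : Dual.D A)
    (h : DRing.IsPerfect A K) : DRing.IsPseudoCoherent' A K := by
  obtain ⟨E, a, b, hE, hE', ⟨e⟩⟩ := h
  have h1 : ∀ m, CalgB.PsCohGen.PC (CalgB.PsCoh.ffree A) m K := fun m => by
    rw [← CalgB.PsCoh.isPseudoCoherent_iff, CalgB.PsCoh.isPseudoCoherent_iff_fproj]
    exact (CalgB.PsCohGen.PC.of_bounded (P := CalgB.PsCoh.fproj A) E a b hE hE' m).of_iso e
  obtain ⟨E', b', h2, h3, h4⟩ :=
    (CalgB.PsCohGen.forall_PC_iff (CalgB.PsCoh.isProjClass_ffree A) K).1 h1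
  exact ⟨E', b', h2, h3, h4⟩

/-- A complex of finite projectives in degrees `≥ 1` has no nonzero map to a module in `D(A)`. -/
theorem eq_zero_of_rep (C : Dual.D A) (b : ℤ) (E : DRing.Cx A) (hE : DRing.VanishesOutside E 1 b)
    (hE' : DRing.TermwiseFiniteProjective E) (e : DRing.toD E ≅ C) (N : ModuleCat.{u} A)
    (x : C ⟶ Dual.inD A N) : x = 0 := by
  let e' : Dual.inD A N ≅ DRing.toD ((HomologicalComplex.single (ModuleCat.{u} A)
      (ComplexShape.up ℤ) 0).obj N) :=
    (DerivedCategory.singleFunctorIsoCompQ (ModuleCat.{u} A) 0).app N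
  obtain ⟨f, hf⟩ := K226.TorAmpB.exists_lift E _ b (fun i hi => hE i (Or.inr hi)) (fun i => by
    obtain ⟨_, h⟩ := hE' i
    exact ModuleCat.projective_of_categoryTheory_projective (E.X i)) (e.hom ≫ x ≫ e'.hom)
  have h0 : f = 0 := by
    apply HomologicalComplex.hom_ext
    intro i
    by_cases hi : i = 0
    · exact (hE i (Or.inl (by omega))).eq_of_src _ _
    · exact (HomologicalComplex.isZero_single_obj_X (ComplexShape.up ℤ) 0 N i hi).eq_of_tgt _ _
  rw [h0, Functor.map_zero] at hf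
  rw [← cancel_epi e.hom, ← cancel_mono e'.hom, comp_zero, zero_comp, Category.assoc, hf]

variable [∀ m : Ideal A, DRing.HasLBaseChange (Ideal.Quotient.mk m)]

theorem eq_zero_of_fibres (C : Dual.D A) (hC : DRing.IsPerfect A C)
    (h : ∀ m : Ideal A, m.IsMaximal → ∀ i : ℤ, i < 1 →
      Subsingleton (Dual.HD (A ⧸ m) ((DRing.LBaseChange (Ideal.Quotient.mk m)).obj C) i))
    (N : ModuleCat.{u} A) (x : C ⟶ Dual.inD A N) : x = 0 := by
  obtain ⟨E₀, a, c, h1, h2, ⟨e₀⟩⟩ := id hC
  have hamp : DRing.HasTorAmplitudeIn A a c C := by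
    refine ⟨E₀, h1, fun i => ?_, ⟨e₀⟩⟩
    have := (h2 i).2
    exact Module.Flat.of_projective
  have hpc : DRing.IsPseudoCoherent' A C := isPseudoCoherent'_of_isPerfect C hC
  obtain ⟨-, h4⟩ := S6974.result A C hpc 1 c fun m hm i hi => by
    rcases hi with hi | hi
    · exact h m hm i hi
    · obtain ⟨F, hF, -, ⟨eF⟩⟩ := S6948.result (Ideal.Quotient.mk m) C a c hamp
      exact K228.TorPerf.isZero_hd_of_vanishes F eF i (hF i (Or.inr hi))
  obtain ⟨E, h5, h6, ⟨e⟩⟩ := K228.TorPerf.exists_finiteProjective_of_torAmp hpc h4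
  exact eq_zero_of_rep C c E h5 h6 e N x

end Ring

section Spec

variable {A : Type u} [CommRing A]

/-- A perfect complex on `Spec A` whose fibres at the closed points are in degrees `≥ 1` has no nonzero map
to the structure sheaf. -/
theorem eq_zero_of_closed_fibres (C : DCoh.D (Spec (CommRingCat.of A))) (hC : DCoh.IsPerfect C)
    (h : ∀ m : Ideal A, m.IsMaximal →
      ((DCoh.Lpull (Spec.map (CommRingCat.ofHom (Ideal.Quotient.mk m)))).obj C).IsGE 1)
    (x : C ⟶ P (Spec (CommRingCat.of A))) : x = 0 := by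
  obtain ⟨-, -, hess⟩ := S0997.result (CommRingCat.of A)
  obtain ⟨C₀, ⟨e⟩⟩ := (hess C).1 (PerfA.QCohD.isQCohD_of_isPerfect C hC)
  have hC₀ : DRing.IsPerfect A C₀ :=
    (S1105.result A C₀).1 (PerfA.PerfLocal.isPerfect_of_iso e.symm hC)
  have hLB : ∀ m : Ideal A, DRing.HasLBaseChange (Ideal.Quotient.mk m) :=
    fun m => LoccohB.LBC.hasLBaseChange _
  obtain ⟨y, hy⟩ := (DCoh.tildeD (CommRingCat.of A)).map_surjective (e.hom ≫ x ≫ (isoP A).inv)
  have hy0 : y = 0 := by
    refine eq_zero_of_fibres C₀ hC₀ (fun m hm i hi => ?_) (ModuleCat.of A A) y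
    obtain ⟨e1⟩ := S1055.result (Ideal.Quotient.mk m)
    have h1 : ((DCoh.tildeD (CommRingCat.of (A ⧸ m))).obj
        ((DRing.LBaseChange (Ideal.Quotient.mk m)).obj C₀)).IsGE 1 :=
      @Triangulated.TStructure.isGE_of_iso _ _ _ _ _ _ _
        (DerivedCategory.TStructure.t (C := (Spec (CommRingCat.of (A ⧸ m))).Modules)) _ _
        ((e1.app C₀ ≪≫ (DCoh.Lpull _).mapIso e).symm) 1 (h m hm)
    have h2 := Dual.H345.HomBCY.isGE_of_tildeD (CommRingCat.of (A ⧸ m)) _ 1 h1
    have h3 := (DerivedCategory.isGE_iff _ _).1 h2 i hi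
    exact ModuleCat.subsingleton_of_isZero h3
  rw [hy0, Functor.map_zero] at hy
  rw [← cancel_epi e.hom, ← cancel_mono (isoP A).inv, comp_zero, zero_comp, Category.assoc, ← hy]

end Spec

section Fibre

/-- Global functions of a proper geometrically connected and geometrically reduced scheme over a field. -/
lemma bijective_appTop {L : Type u} [Field L] {F : Scheme.{u}} (p : F ⟶ Spec (CommRingCat.of L))
    [IsProper p] [GeometricallyConnected p] [GeometricallyReduced p] :
    Function.Bijective p.appTop := by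
  let _ : F.Over (Spec (CommRingCat.of L)) := ⟨p⟩
  have hp : IsProper (F ↘ Spec (CommRingCat.of L)) := ‹IsProper p›
  have hc : GeometricallyConnected (F ↘ Spec (CommRingCat.of L)) := ‹GeometricallyConnected p›
  have hr : GeometricallyReduced (F ↘ Spec (CommRingCat.of L)) := ‹GeometricallyReduced p›
  have h0 := Groth.Agent.S1536.result L F
  have hnt := CurvesB.HZero.nontrivial_of_h0 L h0
  have h1 : Function.Bijective (CurvesB.HZero.gl L F) :=
    ⟨RingHom.injective _, fun s => CurvesB.HZero.exists_const L h0 s⟩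
  have h2 : (CurvesB.HZero.gl L F : L → Γ(F, ⊤)) =
      (p.appTop : Γ(Spec (CommRingCat.of L), ⊤) → Γ(F, ⊤)) ∘
        (Scheme.ΓSpecIso (CommRingCat.of L)).inv := rfl
  rw [h2] at h1
  have h3 : Function.Bijective
      ((Scheme.ΓSpecIso (CommRingCat.of L)).inv : L → Γ(Spec (CommRingCat.of L), ⊤)) :=
    ConcreteCategory.bijective_of_isIso _
  exact (Function.Bijective.of_comp_iff _ h3).1 h1

/-- In the endomorphisms of `O`, one sided inverses are inverses. -/
theorem comp_eq_id {Z : Scheme.{u}} {M N : Z.Modules} (a : Coh.structureModule Z ≅ M)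
    (b : Coh.structureModule Z ≅ N) (i : M ⟶ N) (r : N ⟶ M) (h : i ≫ r = 𝟙 M) : r ≫ i = 𝟙 N := by
  have h1 := PerfB.UnitComm.end_comm (a.hom ≫ i ≫ b.inv) (b.hom ≫ r ≫ a.inv)
  have h2 : (a.hom ≫ i ≫ b.inv) ≫ (b.hom ≫ r ≫ a.inv) = 𝟙 _ := by
    simp only [Category.assoc, Iso.inv_hom_id_assoc]
    rw [← Category.assoc i r, h, Category.id_comp, Iso.hom_inv_id]
  rw [h2] at h1
  have h3 : (b.hom ≫ r ≫ a.inv) ≫ (a.hom ≫ i ≫ b.inv) = b.hom ≫ (r ≫ i) ≫ b.inv := by
    simp only [Category.assoc, Iso.inv_hom_id_assoc]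
  rw [h3] at h1
  rw [← cancel_epi b.hom, ← cancel_mono b.inv, Category.assoc, ← h1, Category.comp_id,
    Iso.hom_inv_id]

variable {A : Type u} [CommRing A] {X : Scheme.{u}} (f : X ⟶ Spec (CommRingCat.of A))
  [IsProper f] [Flat f] [LocallyOfFinitePresentation f] [GeometricallyReduced f]
  [GeometricallyConnected f]

theorem isGE_fibre (k : Type u) [Field k] (g : Spec (CommRingCat.of k) ⟶ Spec (CommRingCat.of A))
    {C : DCoh.D (Spec (CommRingCat.of A))}
    (r : (DCoh.Rpush f).obj (P X) ⟶ P (Spec (CommRingCat.of A))) (hr : eta f ≫ r = 𝟙 _)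
    (p : (DCoh.Rpush f).obj (P X) ⟶ C) (s : C ⟶ (DCoh.Rpush f).obj (P X)) (hs : s ≫ p = 𝟙 C)
    (hp : eta f ≫ p = 0) : ((DCoh.Lpull g).obj C).IsGE 1 := by
  let f' := pullback.snd f g
  obtain ⟨e0⟩ := PerfB.ModBC.nonempty_baseChange f g (Coh.structureModule X)
    (Ega2.QCohLocal.isQCoh_structureModule _) (PerfB.StructFlat.isFlatOver_structure f)
  let e1 : (DCoh.Lpull g).obj ((DCoh.Rpush f).obj (P X)) ≅ (DCoh.Rpush f').obj (P (pullback f g)) :=
    e0 ≪≫ (DCoh.Rpush f').mapIso ((DerivedCategory.singleFunctor _ 0).mapIso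
      (PerfB.TensUnit.pullbackUnit (pullback.fst f g)))
  have hf' : GeometricallyConnected f' := inferInstance
  have hf'' : GeometricallyReduced f' := inferInstance
  have hiso : IsIso f'.appTop := (ConcreteCategory.isIso_iff_bijective _).2 (bijective_appTop f')
  rw [DerivedCategory.isGE_iff]
  intro i hi
  let F := DCoh.Lpull g ⋙ DerivedCategory.homologyFunctor (Spec (CommRingCat.of k)).Modules i
  have hFs : F.map s ≫ F.map p = 𝟙 (F.obj C) := by
    rw [← F.map_comp, hs, F.map_id]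
  have hFp : F.map (eta f) ≫ F.map p = 0 := by
    rw [← F.map_comp, hp]
    exact F.map_zero _ _
  have hFr : F.map (eta f) ≫ F.map r = 𝟙 _ := by
    rw [← F.map_comp, hr, F.map_id]
  have key : F.map p = 0 := by
    rcases lt_or_eq_of_le (show i ≤ 0 by omega) with hi' | rfl
    · have h1 : IsZero (F.obj ((DCoh.Rpush f).obj (P X))) :=
        (PerfB.H0Fibre.isZero_HD_neg f' (Coh.structureModule _) i hi').of_iso
          ((DerivedCategory.homologyFunctor _ i).mapIso e1)
      exact h1.eq_of_src _ _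
    · let a : Coh.structureModule (Spec (CommRingCat.of k)) ≅ F.obj (P (Spec (CommRingCat.of A))) :=
        ((DerivedCategory.singleFunctorCompHomologyFunctorIso _ 0).app _).symm ≪≫
          (DerivedCategory.homologyFunctor _ 0).mapIso (PerfB.ModBC.lpullInD g).symm
      let b : Coh.structureModule (Spec (CommRingCat.of k)) ≅
          F.obj ((DCoh.Rpush f).obj (P X)) :=
        PerfB.FiberUnit.unitIso f' hiso ≪≫ (PerfB.H0Fibre.HDzero f' _).symm ≪≫
          (DerivedCategory.homologyFunctor _ 0).mapIso e1.symm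
      have h1 := comp_eq_id a b _ _ hFr
      rw [← Category.id_comp (F.map p), ← h1, Category.assoc, hFp, comp_zero]
  have h2 : 𝟙 (F.obj C) = 0 := by rw [← hFs, key, comp_zero]
  exact (IsZero.iff_id_eq_zero _).2 h2

/-- A map `Rf_* O_X ⟶ O` which is zero on `O` is zero. -/
theorem eq_zero_of_eta_comp (r₀ : (DCoh.Rpush f).obj (P X) ⟶ P (Spec (CommRingCat.of A)))
    (hr₀ : eta f ≫ r₀ = 𝟙 _) (r : (DCoh.Rpush f).obj (P X) ⟶ P (Spec (CommRingCat.of A)))
    (hr : eta f ≫ r = 0) : r = 0 := by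
  obtain ⟨C, p, δ, hT⟩ := distinguished_cocone_triangle (eta f)
  have hC : DCoh.IsPerfect C :=
    S0887.isPerfect_obj₃ _ hT (isPerfect_P _) (Dual.H323.RelPerfect.isPerfect_Rpush f _ (isPerfect_P X))
  have hp : eta f ≫ p = 0 := comp_distTriang_mor_zero₁₂ _ hT
  have h31 : δ ≫ (eta f)⟦(1 : ℤ)⟧' = 0 := comp_distTriang_mor_zero₃₁ _ hT
  have hδ : δ = 0 := by
    have h1 : (eta f)⟦(1 : ℤ)⟧' ≫ r₀⟦(1 : ℤ)⟧' = 𝟙 _ := by
      rw [← Functor.map_comp, hr₀, CategoryTheory.Functor.map_id]
    rw [← Category.comp_id δ, ← h1, ← Category.assoc, h31, zero_comp]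
  obtain ⟨s, hs⟩ := Triangle.coyoneda_exact₃ _ hT (𝟙 C)
    ((congrArg (fun z => 𝟙 C ≫ z) hδ).trans comp_zero)
  obtain ⟨r', hr'⟩ := Triangle.yoneda_exact₂ _ hT r hr
  have h2 : r' = 0 := eq_zero_of_closed_fibres C hC (fun m hm => by
    let _ : Field (A ⧸ m) := Ideal.Quotient.field m
    exact isGE_fibre f (A ⧸ m) _ r₀ hr₀ p s hs.symm hp) r'
  rw [hr', h2]
  exact comp_zero

end Fibre

end K174.TraceE
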